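import Cfsg.Agent.Lib.KnownC.GraphForms.Basic
import Cfsg.Agent.Lib.Classical.SympBasic
import Cfsg.Agent.Lib.Orth.Isometry
import Mathlib.LinearAlgebra.Matrix.SesquilinearForm
import Mathlib.FieldTheory.Finite.Basic

/-!
# The similarity classes of non-degenerate alternating and symmetric matrices over a finite field
-/

set_option autoImplicit false
set_option linter.unusedSectionVars false

namespace CfsgLib.KnownC.GraphForms

open Matrix

variable {K : Type*} [Field K] {ι κ : Type} [Fintype ι] [DecidableEq ι] [Fintype κ] [DecidableEq κ]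

theorem congr_apply (M : Matrix ι ι K) (P : Matrix ι κ K) (i j : κ) :
    (Pᵀ * M * P) i j = (fun k => P k i) ⬝ᵥ (M *ᵥ fun k => P k j) := by
  rw [Matrix.mul_assoc, Matrix.mul_apply]
  rfl

/-- `M` and `M'` define equivalent forms. -/
def Congr (M : Matrix ι ι K) (M' : Matrix κ κ K) : Prop :=
  ∃ (P : Matrix ι κ K) (Q : Matrix κ ι K), P * Q = 1 ∧ Q * P = 1 ∧ Pᵀ * M * P = M'

theorem Congr.similar {M : Matrix ι ι K} {M' : Matrix κ κ K} (h : Congr M M') : Similar M M' := by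
  obtain ⟨P, Q, h1, h2, h3⟩ := h
  exact ⟨P, Q, 1, h1, h2, by rw [Units.val_one, one_smul]; exact h3⟩

theorem Congr.symm {M : Matrix ι ι K} {M' : Matrix κ κ K} (h : Congr M M') : Congr M' M := by
  obtain ⟨P, Q, h1, h2, h3⟩ := h
  refine ⟨Q, P, h2, h1, ?_⟩
  calc Qᵀ * M' * Q = (P * Q)ᵀ * M * (P * Q) := by
        rw [← h3]; simp only [Matrix.transpose_mul, Matrix.mul_assoc]
    _ = M := by rw [h1]; simp

theorem Congr.trans {μ : Type} [Fintype μ] [DecidableEq μ] {M : Matrix ι ι K} {M' : Matrix κ κ K} {N : Matrix μ μ K}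
    (h : Congr M M') (h' : Congr M' N) : Congr M N := by
  obtain ⟨P, Q, h1, h2, h3⟩ := h
  obtain ⟨P', Q', h1', h2', h3'⟩ := h'
  refine ⟨P * P', Q' * Q, ?_, ?_, ?_⟩
  · rw [Matrix.mul_assoc, ← Matrix.mul_assoc P', h1', Matrix.one_mul, h1]
  · rw [Matrix.mul_assoc, ← Matrix.mul_assoc Q, h2, Matrix.one_mul, h2']
  · calc (P * P')ᵀ * M * (P * P') = P'ᵀ * (Pᵀ * M * P) * P' := by
          simp only [Matrix.transpose_mul, Matrix.mul_assoc]
      _ = N := by rw [h3, h3']

theorem J_alt {m : ℕ} (v : Fin m ⊕ Fin m → K) : v ⬝ᵥ (Matrix.J (Fin m) K *ᵥ v) = 0 := by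
  simp [Matrix.J, dotProduct, Matrix.mulVec, Fintype.sum_sum_type, Matrix.one_apply, mul_comm]

/-- Every non-degenerate alternating matrix is congruent to `J`. -/
theorem similar_J {M : Matrix ι ι K} (hM : ∀ v, v ⬝ᵥ (M *ᵥ v) = 0) (hu : M.det ≠ 0) :
    ∃ m, Fintype.card ι = 2 * m ∧ Similar M (Matrix.J (Fin m) K) := by
  set B : LinearMap.BilinForm K (ι → K) := Matrix.toLinearMap₂' K M
  have happ : ∀ u v, B u v = u ⬝ᵥ (M *ᵥ v) := fun u v => Matrix.toLinearMap₂'_apply' M u v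
  have hA : B.IsAlt := fun v => (happ v v).trans (hM v)
  have hN : B.Nondegenerate := Matrix.nondegenerate_toLinearMap₂'_iff.mpr (Matrix.nondegenerate_of_det_ne_zero hu)
  obtain ⟨m, b, hb⟩ := Classical.exists_sympBasis hA hN
  have hm : Fintype.card ι = 2 * m := by
    have := Module.finrank_eq_card_basis b
    rw [Module.finrank_fintype_fun_eq_card] at this
    rw [this, Fintype.card_sum, Fintype.card_fin]; omega
  refine ⟨m, hm, ?_⟩
  let c : Module.Basis (Fin m ⊕ Fin m) K (ι → K) := b.reindex (Equiv.sumComm _ _)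
  refine ⟨(Pi.basisFun K ι).toMatrix c, c.toMatrix (Pi.basisFun K ι), 1, Module.Basis.toMatrix_mul_toMatrix_flip _ _,
    Module.Basis.toMatrix_mul_toMatrix_flip _ _, ?_⟩
  have hP : ∀ j, (fun k => (Pi.basisFun K ι).toMatrix c k j) = b (Sum.swap j) := fun j => by
    funext k
    simp [Module.Basis.toMatrix_apply, c]
  ext i j
  rw [congr_apply, hP, hP, ← happ, Units.val_one, one_smul]
  rcases i with i | i <;> rcases j with j | j
  · simpa [Matrix.J] using hb.2.2 i j
  · simp only [Sum.swap_inl, Sum.swap_inr, Matrix.J, Matrix.fromBlocks_apply₁₂, Matrix.neg_apply, Matrix.one_apply]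
    rw [← hA.neg_eq (b (Sum.inl j)) (b (Sum.inr i)), hb.1 j i]
    by_cases h : i = j <;> simp [h, Ne.symm]
  · simp only [Sum.swap_inl, Sum.swap_inr, Matrix.J, Matrix.fromBlocks_apply₂₁, Matrix.one_apply]
    exact hb.1 i j
  · simpa [Matrix.J] using hb.2.1 i j

/-- The symmetric part of the classification: congruence to `diag (1, …, 1, δ)`. -/
theorem similar_diagForm [Finite K] (h2 : (2 : K) ≠ 0) {M : Matrix ι ι K} (hM : Mᵀ = M) (hu : M.det ≠ 0) {k : ℕ}
    (hk : Fintype.card ι = k + 1) :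
    ∃ δ : K, δ ≠ 0 ∧ IsSquare (δ * M.det) ∧
      Congr M (Matrix.diagonal fun i : Fin (k + 1) => if i = Fin.last k then δ else 1) := by
  set B : LinearMap.BilinForm K (ι → K) := Matrix.toLinearMap₂' K M
  have happ : ∀ u v, B u v = u ⬝ᵥ (M *ᵥ v) := fun u v => Matrix.toLinearMap₂'_apply' M u v
  have hsym : ∀ u v, B v u = B u v := fun u v => by
    rw [happ, happ, Matrix.dotProduct_mulVec, ← Matrix.mulVec_transpose, hM, dotProduct_comm]
  have hpol : ∀ u v, QuadraticMap.polar B.toQuadraticMap u v = 2 * B u v := fun u v => by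
    rw [LinearMap.BilinMap.polar_toQuadraticMap, hsym u v, two_mul]
  have hN : (QuadraticMap.polarBilin B.toQuadraticMap).Nondegenerate := by
    refine CfsgLib.Orth.nondegenerate_of_left fun v hv => ?_
    have hB : B.Nondegenerate := Matrix.nondegenerate_toLinearMap₂'_iff.mpr (Matrix.nondegenerate_of_det_ne_zero hu)
    refine hB.1 v fun w => ?_
    have h := hv w
    rw [hpol] at h
    exact (mul_eq_zero.1 h).resolve_left h2
  have := Fintype.ofFinite K
  obtain ⟨δ, e, hδ, he⟩ := CfsgLib.Orth.exists_diag (Q := B.toQuadraticMap) h2 hN (k := k)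
    (by rw [Module.finrank_fintype_fun_eq_card, hk])
  set D := Matrix.diagonal fun i : Fin (k + 1) => if i = Fin.last k then δ else 1
  set P := LinearMap.toMatrix' e.toLinearMap
  set R := LinearMap.toMatrix' e.symm.toLinearMap
  have h1 : P * R = 1 := by
    rw [← LinearMap.toMatrix'_comp, LinearEquiv.comp_coe, e.symm_trans_self, LinearEquiv.refl_toLinearMap,
      LinearMap.toMatrix'_id]
  have h1' : R * P = 1 := by
    rw [← LinearMap.toMatrix'_comp, LinearEquiv.comp_coe, e.self_trans_symm, LinearEquiv.refl_toLinearMap,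
      LinearMap.toMatrix'_id]
  have hD : ∀ u v : Fin (k + 1) → K, u ⬝ᵥ (D *ᵥ v) = ∑ i, u i * ((if i = Fin.last k then δ else 1) * v i) :=
    fun u v => by simp [D, dotProduct, Matrix.mulVec_diagonal]
  have hPD : Pᵀ * M * P = D := by
    refine ext_dot fun u v => ?_
    have hd : ∀ u v, u ⬝ᵥ ((Pᵀ * M * P) *ᵥ v) = B (e u) (e v) := fun u v => by
      rw [happ, ← Matrix.mulVec_mulVec, ← Matrix.mulVec_mulVec, Matrix.dotProduct_mulVec u Pᵀ,
        Matrix.vecMul_transpose, LinearMap.toMatrix'_mulVec, LinearMap.toMatrix'_mulVec]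
      rfl
    have hdiag : ∀ w, B (e w) (e w) = w ⬝ᵥ (D *ᵥ w) := fun w => by
      rw [← LinearMap.BilinMap.toQuadraticMap_apply, he, hD, CfsgLib.Orth.diagForm_apply,
        Fin.sum_univ_castSucc]
      simp [(Fin.castSucc_lt_last _).ne]
      ring
    have hsymD : v ⬝ᵥ (D *ᵥ u) = u ⬝ᵥ (D *ᵥ v) := by
      rw [hD, hD]; exact Finset.sum_congr rfl fun i _ => by ring
    have h := hdiag (u + v)
    simp only [map_add, LinearMap.add_apply, Matrix.mulVec_add, dotProduct_add, add_dotProduct, hdiag u, hdiag v,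
      hsym (e u) (e v), hsymD] at h
    rw [hd]
    exact mul_left_cancel₀ h2 (by linear_combination h)
  refine ⟨δ, hδ, ?_, P, R, h1, h1', hPD⟩
  let g : ι ≃ Fin (k + 1) := Fintype.equivFinOfCardEq hk
  have h := congrArg (fun X => (X.submatrix g g).det) hPD
  simp only [Matrix.det_submatrix_equiv_self] at h
  have e2 : (Pᵀ * M * P).submatrix g g = (P.submatrix id g)ᵀ * M * (P.submatrix id g) := rfl
  have hdet : D.det = δ := by simp [D, Matrix.det_diagonal, Finset.prod_ite_eq']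
  rw [← Matrix.det_submatrix_equiv_self g, e2, Matrix.det_mul, Matrix.det_mul, Matrix.det_transpose, hdet] at h
  exact ⟨(P.submatrix id g).det * M.det, by rw [← h]; ring⟩

theorem congr_diagonal_of_sq {ι : Type} [Fintype ι] [DecidableEq ι] (d d' : ι → K)
    (h : ∀ i, ∃ s : K, s ≠ 0 ∧ s * s * d i = d' i) : Congr (Matrix.diagonal d) (Matrix.diagonal d') := by
  choose s hs0 hs using h
  refine ⟨Matrix.diagonal s, Matrix.diagonal fun i => (s i)⁻¹, ?_, ?_, ?_⟩
  · rw [Matrix.diagonal_mul_diagonal, ← Matrix.diagonal_one]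
    exact congrArg _ (funext fun i => mul_inv_cancel₀ (hs0 i))
  · rw [Matrix.diagonal_mul_diagonal, ← Matrix.diagonal_one]
    exact congrArg _ (funext fun i => inv_mul_cancel₀ (hs0 i))
  · rw [Matrix.diagonal_transpose, Matrix.diagonal_mul_diagonal, Matrix.diagonal_mul_diagonal]
    exact congrArg _ (funext fun i => by rw [← hs i]; ring)

/-- Symmetric matrices with the same discriminant are congruent. -/
theorem congr_of_isSquare [Finite K] (h2 : (2 : K) ≠ 0) {M : Matrix ι ι K} {M' : Matrix κ κ K} (hM : Mᵀ = M)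
    (hM' : M'ᵀ = M') (hc : Fintype.card ι = Fintype.card κ) (hu : M.det ≠ 0) (hu' : M'.det ≠ 0)
    (hd : IsSquare (M.det * M'.det)) : Congr M M' := by
  rcases Nat.eq_zero_or_pos (Fintype.card ι) with h0 | hpos
  · have : IsEmpty ι := Fintype.card_eq_zero_iff.1 h0
    have : IsEmpty κ := Fintype.card_eq_zero_iff.1 (hc ▸ h0)
    exact ⟨fun i => (IsEmpty.false i).elim, fun i => (IsEmpty.false i).elim, Matrix.ext fun i => (IsEmpty.false i).elim,
      Matrix.ext fun i => (IsEmpty.false i).elim, Matrix.ext fun i => (IsEmpty.false i).elim⟩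
  obtain ⟨k, hk⟩ := Nat.exists_eq_succ_of_ne_zero hpos.ne'
  obtain ⟨δ, hδ, hδM, hs⟩ := similar_diagForm h2 hM hu hk
  obtain ⟨δ', hδ', hδM', hs'⟩ := similar_diagForm h2 hM' hu' (hc ▸ hk)
  refine hs.trans (Congr.trans ?_ hs'.symm)
  obtain ⟨a, ha⟩ := hδM
  obtain ⟨b, hb⟩ := hδM'
  obtain ⟨c, hc'⟩ := hd
  have ha0 : a ≠ 0 := fun h => mul_ne_zero hδ hu (by rw [ha, h, mul_zero])
  have hb0 : b ≠ 0 := fun h => mul_ne_zero hδ' hu' (by rw [hb, h, mul_zero])
  have hc0 : c ≠ 0 := fun h => mul_ne_zero hu hu' (by rw [hc', h, mul_zero])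
  refine congr_diagonal_of_sq _ _ fun i => ?_
  by_cases hi : i = Fin.last k
  · rw [if_pos hi, if_pos hi]
    refine ⟨a * b / (c * δ), div_ne_zero (mul_ne_zero ha0 hb0) (mul_ne_zero hc0 hδ), ?_⟩
    field_simp
    linear_combination -(b * b) * ha - δ * M.det * hb + δ * δ' * hc'
  · rw [if_neg hi, if_neg hi]
    exact ⟨1, one_ne_zero, by ring⟩

/-- In odd dimension all non-degenerate symmetric matrices are similar. -/
theorem similar_of_odd [Finite K] (h2 : (2 : K) ≠ 0) {M : Matrix ι ι K} {M' : Matrix κ κ K} (hM : Mᵀ = M)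
    (hM' : M'ᵀ = M') (hc : Fintype.card ι = Fintype.card κ) (hu : M.det ≠ 0) (hu' : M'.det ≠ 0)
    (ho : Odd (Fintype.card ι)) : Similar M M' := by
  let a : Kˣ := Units.mk0 (M.det * M'.det) (mul_ne_zero hu hu')
  have hd : ((a : K) • M').det = (a : K) ^ Fintype.card κ * M'.det := Matrix.det_smul _ _
  refine (congr_of_isSquare h2 hM (M' := (a : K) • M') (by rw [Matrix.transpose_smul, hM']) hc hu
    (by rw [hd]; exact mul_ne_zero (pow_ne_zero _ a.ne_zero) hu') ?_).similar.trans (similar_smul a).symm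
  obtain ⟨j, hj⟩ := (hc ▸ ho).add_one
  refine ⟨(a : K) ^ j, ?_⟩
  rw [hd, ← pow_add, ← hj, pow_succ]
  simp only [a, Units.val_mk0]
  ring

/-- Similar matrices in even dimension have the same discriminant. -/
theorem Similar.isSquare {M : Matrix ι ι K} {M' : Matrix κ κ K} (h : Similar M M')
    (hc : Fintype.card ι = Fintype.card κ) (he : Even (Fintype.card ι)) : IsSquare (M.det * M'.det) := by
  obtain ⟨P, Q, c, -, -, h3⟩ := h
  let g : ι ≃ κ := Fintype.equivOfCardEq hc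
  have h := congrArg (fun X => (X.submatrix g g).det) h3
  have e : (Pᵀ * M * P).submatrix g g = (P.submatrix id g)ᵀ * M * (P.submatrix id g) := rfl
  simp only [Matrix.det_submatrix_equiv_self] at h
  rw [← Matrix.det_submatrix_equiv_self g, e, Matrix.det_mul, Matrix.det_mul, Matrix.det_transpose, Matrix.det_smul] at h
  obtain ⟨j, hj⟩ := hc ▸ he
  rw [hj, pow_add] at h
  refine ⟨(P.submatrix id g).det * M.det / (c : K) ^ j, ?_⟩
  field_simp
  linear_combination -M.det * h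

theorem Similar.transpose_smul {M : Matrix ι ι K} {M' : Matrix κ κ K} (h : Similar M M') {ε : K}
    (hM : Mᵀ = ε • M) : M'ᵀ = ε • M' := by
  obtain ⟨P, Q, c, -, -, h3⟩ := h
  have e : (c : K) • M'ᵀ = (c : K) • (ε • M') := by
    rw [← Matrix.transpose_smul, ← h3, smul_comm, ← h3]
    simp only [Matrix.transpose_mul, Matrix.transpose_transpose, hM, Matrix.mul_assoc, Matrix.smul_mul, Matrix.mul_smul]
  exact smul_right_injective _ c.ne_zero e

/-- The polar matrix of the plus-type form. -/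
def Mplus (m : ℕ) (K : Type*) [Field K] : Matrix (Fin m ⊕ Fin m) (Fin m ⊕ Fin m) K := Matrix.fromBlocks 0 1 1 0

/-- The polar matrix of the minus-type form. -/
def Mminus (m : ℕ) (K : Type*) [Field K] (a b : K) :
    Matrix ((Fin m ⊕ Fin m) ⊕ Fin 2) ((Fin m ⊕ Fin m) ⊕ Fin 2) K :=
  Matrix.fromBlocks (Mplus m K) 0 0 !![2, a; a, 2 * b]

/-- The polar matrix of the odd-dimensional form. -/
def Modd (m : ℕ) (K : Type*) [Field K] : Matrix (Unit ⊕ (Fin m ⊕ Fin m)) (Unit ⊕ (Fin m ⊕ Fin m)) K :=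
  Matrix.fromBlocks ((2 : K) • 1) 0 0 (Mplus m K)

theorem Mplus_transpose (m : ℕ) : (Mplus m K)ᵀ = Mplus m K := by
  simp [Mplus, Matrix.fromBlocks_transpose]

theorem Mminus_transpose (m : ℕ) (a b : K) : (Mminus m K a b)ᵀ = Mminus m K a b := by
  rw [Mminus, Matrix.fromBlocks_transpose, Mplus_transpose, Matrix.transpose_zero, Matrix.transpose_zero]
  congr 1
  ext i j; fin_cases i <;> fin_cases j <;> rfl

theorem Modd_transpose (m : ℕ) : (Modd m K)ᵀ = Modd m K := by
  rw [Modd, Matrix.fromBlocks_transpose, Mplus_transpose, Matrix.transpose_smul, Matrix.transpose_one,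
    Matrix.transpose_zero, Matrix.transpose_zero]

theorem Mplus_det (h2 : (2 : K) ≠ 0) (m : ℕ) : (Mplus m K).det ≠ 0 ∧ IsSquare ((Mplus m K).det * (-1) ^ m) := by
  set P : Matrix (Fin m ⊕ Fin m) (Fin m ⊕ Fin m) K := Matrix.fromBlocks 1 1 1 (-1)
  have h : Pᵀ * Mplus m K * P = Matrix.diagonal (Sum.elim (fun _ => (2 : K)) fun _ => -2) := by
    simp only [P, Mplus, Matrix.fromBlocks_transpose, Matrix.fromBlocks_multiply, Matrix.transpose_one,
      Matrix.transpose_neg, ← Matrix.fromBlocks_diagonal]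
    congr 1 <;> ext i j <;> by_cases hij : i = j <;> simp [hij] <;> norm_num
  have hd := congrArg Matrix.det h
  rw [Matrix.det_mul, Matrix.det_mul, Matrix.det_transpose, Matrix.det_diagonal, Fintype.prod_sum_type] at hd
  simp only [Sum.elim_inl, Sum.elim_inr, Finset.prod_const, Finset.card_univ, Fintype.card_fin] at hd
  have hne : (2 : K) ^ m * (-2) ^ m ≠ 0 := mul_ne_zero (pow_ne_zero _ h2) (pow_ne_zero _ (neg_ne_zero.2 h2))
  have hP0 : P.det ≠ 0 := fun h => hne (by rw [← hd, h, zero_mul, zero_mul])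
  refine ⟨fun h => hne (by rw [← hd, h, mul_zero, zero_mul]), 2 ^ m / P.det, ?_⟩
  field_simp
  rw [show (Mplus m K).det * (-1) ^ m * P.det ^ 2 = (P.det * (Mplus m K).det * P.det) * (-1) ^ m by ring, hd,
    neg_pow (2 : K) m]
  calc (2 : K) ^ m * ((-1) ^ m * 2 ^ m) * (-1) ^ m = (2 ^ m) ^ 2 * ((-1) * (-1)) ^ m := by rw [mul_pow]; ring
    _ = _ := by norm_num

theorem disc_not_square (h2 : (2 : K) ≠ 0) {a b : K}
    (hab : ∀ z₁ z₂ : K, z₁ ^ 2 + a * z₁ * z₂ + b * z₂ ^ 2 = 0 → z₁ = 0 ∧ z₂ = 0) :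
    ¬ IsSquare (a * a - 4 * b) := by
  rintro ⟨s, hs⟩
  exact h2 (hab (s - a) 2 (by linear_combination -hs)).2

theorem Mminus_det [Finite K] (h2 : (2 : K) ≠ 0) (m : ℕ) {a b : K}
    (hab : ∀ z₁ z₂ : K, z₁ ^ 2 + a * z₁ * z₂ + b * z₂ ^ 2 = 0 → z₁ = 0 ∧ z₂ = 0) :
    (Mminus m K a b).det ≠ 0 ∧ ¬ IsSquare ((Mminus m K a b).det * (-1) ^ (m + 1)) := by
  have hd : (Mminus m K a b).det * (-1) ^ (m + 1) = ((Mplus m K).det * (-1) ^ m) * (a * a - 4 * b) := by
    rw [Mminus, Matrix.det_fromBlocks_zero₁₂, Matrix.det_fin_two_of, pow_succ]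
    ring
  obtain ⟨h0, s, hs⟩ := Mplus_det h2 m
  have hns := disc_not_square h2 hab
  have hne : (Mplus m K).det * (-1) ^ m ≠ 0 := mul_ne_zero h0 (pow_ne_zero _ (neg_ne_zero.2 one_ne_zero))
  have hne2 : a * a - 4 * b ≠ 0 := fun h => hns ⟨0, by rw [h, mul_zero]⟩
  refine ⟨fun h => mul_ne_zero hne hne2 (by rw [← hd, h, zero_mul]), ?_⟩
  rw [hd, hs]
  rintro ⟨t, ht⟩
  have hs0 : s ≠ 0 := fun h => hne (by rw [hs, h, mul_zero])
  exact hns ⟨t / s, by field_simp; linear_combination ht⟩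

theorem Modd_det (h2 : (2 : K) ≠ 0) (m : ℕ) : (Modd m K).det ≠ 0 := by
  rw [Modd, Matrix.det_fromBlocks_zero₁₂, Matrix.det_smul, Matrix.det_one, mul_one]
  exact mul_ne_zero (pow_ne_zero _ h2) (Mplus_det h2 m).1

theorem dot_sum {m : ℕ} (u v : Fin m ⊕ Fin m → K) :
    u ⬝ᵥ (Mplus m K *ᵥ v) = ∑ i, (u (Sum.inl i) * v (Sum.inr i) + u (Sum.inr i) * v (Sum.inl i)) := by
  simp [Mplus, dotProduct, Matrix.mulVec, Fintype.sum_sum_type, Matrix.one_apply, Finset.sum_add_distrib]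

theorem pgo_plus (h2 : (2 : K) ≠ 0) (m : ℕ) :
    Cfsg.Geo.quadSimilarityGroup (F := K) (Cfsg.quadFormPlus m K) = Sim (Mplus m K) := by
  refine quadSim_eq h2 _ _ (Mplus_transpose m) fun v => ?_
  rw [dot_sum, Cfsg.quadFormPlus, Finset.mul_sum]
  exact Finset.sum_congr rfl fun i _ => by ring

theorem pgo_minus (h2 : (2 : K) ≠ 0) (m : ℕ) (a b : K) :
    Cfsg.Geo.quadSimilarityGroup (F := K) (Cfsg.quadFormMinus m K a b) = Sim (Mminus m K a b) := by
  refine quadSim_eq h2 _ _ (Mminus_transpose m a b) fun v => ?_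
  have e : v ⬝ᵥ (Mminus m K a b *ᵥ v) = (v ∘ Sum.inl) ⬝ᵥ (Mplus m K *ᵥ (v ∘ Sum.inl)) +
      (v ∘ Sum.inr) ⬝ᵥ (!![2, a; a, 2 * b] *ᵥ (v ∘ Sum.inr)) := by
    rw [Mminus, Matrix.fromBlocks_mulVec, Matrix.zero_mulVec, Matrix.zero_mulVec, add_zero, zero_add]
    simp [dotProduct, Fintype.sum_sum_type]
  rw [e, dot_sum, Cfsg.quadFormMinus, mul_add, Finset.mul_sum]
  simp only [Function.comp_apply]
  congr 1
  · exact Finset.sum_congr rfl fun i _ => by ring
  · simp [dotProduct, Matrix.mulVec, Fin.sum_univ_two]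
    ring

theorem pgo_odd (h2 : (2 : K) ≠ 0) (m : ℕ) :
    Cfsg.Geo.quadSimilarityGroup (F := K) (Cfsg.quadFormOdd m K) = Sim (Modd m K) := by
  refine quadSim_eq h2 _ _ (Modd_transpose m) fun v => ?_
  have e : v ⬝ᵥ (Modd m K *ᵥ v) = (v ∘ Sum.inl) ⬝ᵥ (((2 : K) • (1 : Matrix Unit Unit K)) *ᵥ (v ∘ Sum.inl)) +
      (v ∘ Sum.inr) ⬝ᵥ (Mplus m K *ᵥ (v ∘ Sum.inr)) := by
    rw [Modd, Matrix.fromBlocks_mulVec, Matrix.zero_mulVec, Matrix.zero_mulVec, add_zero, zero_add]
    simp [dotProduct, Fintype.sum_sum_type]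
  rw [e, dot_sum, Cfsg.quadFormOdd, mul_add, Finset.mul_sum]
  simp only [Function.comp_apply]
  congr 1
  · simp [dotProduct, Matrix.smul_mulVec]; ring
  · exact Finset.sum_congr rfl fun i _ => by ring

end CfsgLib.KnownC.GraphForms
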