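import Cfsg.Agent.Lib.KnownC.GraphForms.Facts
import Cfsg.Agent.Lib.KnownC.AutPSL.Split
import Cfsg.Agent.Lib.KnownC.AutPSL.GraphField

/-!
# Involutory graph automorphisms of `PSL_n` as forms
-/

set_option autoImplicit false
set_option linter.unusedSectionVars false

namespace CfsgLib.KnownC.GraphForms.Lin

open Matrix CfsgLib.KnownC.AutPSL

variable {F : Type*} [Field F] {n : ℕ}

local notation "PSLn" => Matrix.ProjectiveSpecialLinearGroup (Fin n) F
local notation "Mn" => Matrix (Fin n) (Fin n) F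

/-- The graph automorphism attached to a matrix `M`. -/
noncomputable def gInv (M : GL (Fin n) F) : MulAut PSLn := semiAut M⁻¹ (RingEquiv.refl F) * itAut

theorem map_refl (A : GL (Fin n) F) : Matrix.GeneralLinearGroup.map (RingEquiv.refl F).toRingHom A = A :=
  Units.ext (Matrix.ext fun _ _ => rfl)

theorem refl_comp : (RingEquiv.refl F).trans (RingEquiv.refl F) = RingEquiv.refl F := rfl

theorem itGL_val (A : GL (Fin n) F) : ((itGL A : GL (Fin n) F) : Mn) = ((A⁻¹ : GL (Fin n) F) : Mn)ᵀ := rfl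

theorem itGL_inv_val (A : GL (Fin n) F) : (((itGL A)⁻¹ : GL (Fin n) F) : Mn) = (A : Mn)ᵀ := rfl

/-- A conjugate of a graph automorphism. -/
theorem conj_gInv (h M : GL (Fin n) F) :
    semiAut h (RingEquiv.refl F) * gInv M * (semiAut h (RingEquiv.refl F))⁻¹ =
      semiAut (h * M⁻¹ * (itGL h)⁻¹) (RingEquiv.refl F) * itAut := by
  rw [refl_inv, gInv, ← mul_assoc, mul_assoc (_ * _) itAut, it_semi, ← mul_assoc, refl_mul, refl_mul]
  congr 2

theorem scal_mul (A : GL (Fin n) F) (c : Fˣ) : ((scl c * A : GL (Fin n) F) : Mn) = (c : F) • (A : Mn) := by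
  rw [Units.val_mul, scl_coe, Matrix.smul_mul, Matrix.one_mul]

theorem conj_eq_iff (hn : 3 ≤ n) (h M M' : GL (Fin n) F) :
    semiAut h (RingEquiv.refl F) * gInv M * (semiAut h (RingEquiv.refl F))⁻¹ = gInv M' ↔
      ∃ c : Fˣ, (h : Mn)ᵀ * (M' : Mn) * (h : Mn) = (c : F) • (M : Mn) := by
  rw [conj_gInv, gInv, mul_left_inj, semi_eq_iff (by omega)]
  simp only [true_and]
  constructor
  · rintro ⟨c, hc⟩
    refine ⟨c, ?_⟩
    have e : M' * h * M⁻¹ * (itGL h)⁻¹ = scl c := by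
      rw [show M' * h * M⁻¹ * (itGL h)⁻¹ = M' * (h * M⁻¹ * (itGL h)⁻¹) by group, hc, scl_comm, mul_inv_cancel_left]
    have e' : (itGL h)⁻¹ * M' * h = scl c * M := by
      calc (itGL h)⁻¹ * M' * h = (itGL h)⁻¹ * (M' * h * M⁻¹ * (itGL h)⁻¹) * (itGL h) * M := by group
        _ = _ := by rw [e, ← scl_comm, inv_mul_cancel_right]
    rw [← scal_mul, ← e', Units.val_mul, Units.val_mul, itGL_inv_val]
  · rintro ⟨c, hc⟩
    refine ⟨c, ?_⟩
    have e' : (itGL h)⁻¹ * M' * h = scl c * M := Units.ext (by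
      rw [scal_mul, Units.val_mul, Units.val_mul, itGL_inv_val]; exact hc)
    calc h * M⁻¹ * (itGL h)⁻¹ = h * (M⁻¹ * ((itGL h)⁻¹ * M' * h)) * h⁻¹ * M'⁻¹ := by group
      _ = _ := by rw [e', scl_comm c M, inv_mul_cancel_left, ← scl_comm, mul_inv_cancel_right]

theorem commute_iff (hn : 3 ≤ n) (h M : GL (Fin n) F) :
    semiAut h (RingEquiv.refl F) * gInv M = gInv M * semiAut h (RingEquiv.refl F) ↔ h ∈ Sim (M : Mn) := by
  rw [← mul_inv_eq_iff_eq_mul, conj_eq_iff hn]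
  rfl

theorem isConj_iff (hn : 3 ≤ n) (M M' : GL (Fin n) F) :
    Cfsg.IsConjUnder (Cfsg.inndiagPSL n F) (gInv M) (gInv M') ↔ Similar (M : Mn) (M' : Mn) := by
  constructor
  · rintro ⟨_, hy, e⟩
    obtain ⟨h, rfl⟩ := (inndiag_iff_mem _).1 hy
    obtain ⟨c, hc⟩ := (conj_eq_iff hn h M M').1 e.symm
    exact (similar_of_mem h c hc).symm
  · intro hs
    obtain ⟨h, c, hc⟩ := hs.symm.exists_gl
    exact ⟨_, semi_mem_inndiag h, ((conj_eq_iff hn h M M').2 ⟨c, hc⟩).symm⟩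

theorem sq_eq (M : GL (Fin n) F) : gInv M * gInv M = semiAut (M⁻¹ * itGL M⁻¹) (RingEquiv.refl F) := by
  rw [gInv, mul_assoc, ← mul_assoc itAut, it_semi, mul_assoc, itAut_sq, mul_one, refl_mul]

theorem ne_one (hn : 3 ≤ n) (M : GL (Fin n) F) : gInv M ≠ 1 := fun h => by
  rw [gInv, mul_eq_one_iff_inv_eq, refl_inv] at h
  exact it_ne_semi hn M⁻¹⁻¹ (RingEquiv.refl F) h.symm

theorem orderOf_gInv (hn : 3 ≤ n) (M : GL (Fin n) F) {ε : F} (hM : (M : Mn)ᵀ = ε • (M : Mn)) :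
    orderOf (gInv M) = 2 := by
  refine orderOf_eq_prime ?_ (ne_one hn M)
  rw [pow_two, sq_eq, ← semiAut_one, semi_eq_iff (by omega)]
  have hε : ε ≠ 0 := fun h => by
    have hne : (M : Mn) ≠ 0 := fun h0 => M.det_ne_zero (by haveI : Nonempty (Fin n) := ⟨⟨0, by omega⟩⟩; rw [h0, Matrix.det_zero])
    rw [h, zero_smul, Matrix.transpose_eq_zero] at hM
    exact hne hM
  refine ⟨rfl, Units.mk0 ε hε, Units.ext ?_⟩
  rw [scal_mul, Units.val_mk0, Units.val_one, Units.val_mul, itGL_val, inv_inv, hM, Matrix.mul_smul, M.inv_mul]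

theorem exists_form (hn : 3 ≤ n) {γ : MulAut PSLn} (hγ : Cfsg.IsGraphAutClassPSL γ) (h2 : orderOf γ = 2) :
    ∃ (M : GL (Fin n) F) (ε : F), γ = gInv M ∧ (M : Mn)ᵀ = ε • (M : Mn) ∧ (ε = 1 ∨ ε = -1) := by
  obtain ⟨-, δ, ι, hδ, hι, rfl⟩ := hγ
  obtain ⟨A, rfl⟩ := (innDiag_iff δ).1 hδ
  obtain rfl := (invTranspose_iff ι).1 hι
  have hA : semiAut A (RingEquiv.refl F) * itAut = gInv A⁻¹ := by rw [gInv, inv_inv]
  have h1 : gInv A⁻¹ ^ 2 = 1 := by rw [← hA, ← h2, pow_orderOf_eq_one]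
  rw [pow_two, sq_eq, ← semiAut_one, semi_eq_iff (by omega)] at h1
  obtain ⟨-, c, hc⟩ := h1
  refine ⟨A⁻¹, c, hA, ?_⟩
  set M := A⁻¹
  have hc' : ((M⁻¹ : GL (Fin n) F) : Mn) * (M : Mn)ᵀ = (c : F) • (1 : Mn) := by
    have := congrArg (fun g : GL (Fin n) F => (g : Mn)) hc
    simp only [Units.val_mul, itGL_val, inv_inv, scl_coe, Units.val_one, Matrix.mul_one] at this
    exact this
  have hMt : (M : Mn)ᵀ = (c : F) • (M : Mn) := by
    have := congrArg (fun X => (M : Mn) * X) hc'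
    simpa [← Matrix.mul_assoc] using this
  refine ⟨hMt, ?_⟩
  have h3 := congrArg Matrix.transpose hMt
  rw [Matrix.transpose_transpose, Matrix.transpose_smul, hMt, smul_smul] at h3
  obtain ⟨i, j, hij⟩ : ∃ i j, (M : Mn) i j ≠ 0 := by
    by_contra hh
    push Not at hh
    haveI : Nonempty (Fin n) := ⟨⟨0, by omega⟩⟩
    exact M.det_ne_zero (by rw [show (M : Mn) = 0 from Matrix.ext hh, Matrix.det_zero])
  have h4 := congrFun (congrFun h3 i) j
  rw [Matrix.smul_apply, smul_eq_mul] at h4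
  exact mul_self_eq_one_iff.1 (mul_right_cancel₀ hij (by rw [← h4, one_mul]))

theorem graph_gInv (hn : 3 ≤ n) (M : GL (Fin n) F) : Cfsg.IsGraphAutClassPSL (gInv M) :=
  ⟨hn, _, _, (innDiag_iff _).2 ⟨M⁻¹, rfl⟩, (invTranspose_iff _).2 rfl, rfl⟩

variable [Fintype F]

theorem centralizer (hn : 3 ≤ n) (M : GL (Fin n) F) :
    Nonempty (↥(Cfsg.inndiagPSL n F ⊓ Subgroup.centralizer {gInv M}) ≃* Cfsg.projQuot (Sim (M : Mn))) := by
  let Φ : Sim (M : Mn) →* ↥(Cfsg.inndiagPSL n F ⊓ Subgroup.centralizer {gInv M}) :=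
    MonoidHom.codRestrict (MonoidHom.mk' (fun g : Sim (M : Mn) => semiAut (g : GL (Fin n) F) (RingEquiv.refl F))
      (fun B C => (refl_mul _ _).symm)) _ (fun g => ⟨semi_mem_inndiag _,
        Subgroup.mem_centralizer_singleton_iff.2 ((commute_iff hn _ M).2 g.2)⟩)
  have hΦ : Function.Surjective Φ := by
    rintro ⟨y, hy1, hy2⟩
    obtain ⟨A, rfl⟩ := (inndiag_iff_mem y).1 hy1
    exact ⟨⟨A, (commute_iff hn A M).1 (Subgroup.mem_centralizer_singleton_iff.1 hy2)⟩, rfl⟩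
  have hker : Φ.ker = (Cfsg.Geo.scalars (Fin n) F).subgroupOf (Sim (M : Mn)) := by
    ext B
    rw [MonoidHom.mem_ker, Subtype.ext_iff, Subgroup.mem_subgroupOf, Cfsg.Geo.mem_scalars_iff]
    show semiAut (B : GL (Fin n) F) _ = 1 ↔ _
    constructor
    · intro h; exact (semi_eq_one (by omega) h).2
    · rintro ⟨c, hc⟩
      rw [show (B : GL (Fin n) F) = scl c from Units.ext (by rw [hc, scl_coe])]
      exact semiAut_scl c
  exact ⟨((QuotientGroup.quotientMulEquivOfEq hker.symm).trans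
    (QuotientGroup.quotientKerEquivOfSurjective Φ hΦ)).symm⟩

/-- The centraliser is the projective similitude group of any similar form. -/
theorem centralizer_similar {ι : Type} [Fintype ι] [DecidableEq ι] (hn : 3 ≤ n) (M : GL (Fin n) F) {N : Matrix ι ι F}
    (h : Similar (M : Mn) N) :
    Nonempty (↥(Cfsg.inndiagPSL n F ⊓ Subgroup.centralizer {gInv M}) ≃* Cfsg.projQuot (Sim N)) :=
  ⟨(centralizer hn M).some.trans h.projSim.some⟩

/-- The determinants occurring in the stabiliser, up to scalars. -/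
noncomputable def detT (M : Mn) : Subgroup Fˣ :=
  (powMonoidHom n : Fˣ →* Fˣ).range ⊔ (Sim M).map Matrix.GeneralLinearGroup.det

theorem split (hn : 3 ≤ n) (M : GL (Fin n) F) :
    Cfsg.splitClassCount (Cfsg.inndiagPSL n F) (Cfsg.Inn PSLn) (gInv M) = (detT (M : Mn)).index := by
  refine split_count (by omega) _ _ (fun A hA => ?_) (fun s hs => ?_)
  · exact Subgroup.mem_sup_right ⟨A, (commute_iff hn A M).1 hA, rfl⟩
  · obtain ⟨_, ⟨u, rfl⟩, _, ⟨g, hg, rfl⟩, rfl⟩ := Subgroup.mem_sup.1 hs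
    exact ⟨g, u, (commute_iff hn g M).2 hg, mul_comm _ _⟩

theorem mem_detT {M : Mn} {d : Fˣ} (hd : d ∈ detT M) : ∃ (g : GL (Fin n) F) (c u : Fˣ),
    (g : Mn)ᵀ * M * (g : Mn) = (c : F) • M ∧ (d : F) = (u : F) ^ n * (g : Mn).det := by
  obtain ⟨_, ⟨u, rfl⟩, _, ⟨g, ⟨c, hc⟩, rfl⟩, rfl⟩ := Subgroup.mem_sup.1 hd
  exact ⟨g, c, u, hc, rfl⟩

theorem mem_detT_of {M : Mn} (hu : M.det ≠ 0) {g : Mn} {c : F} (hc : c ≠ 0) (hg : gᵀ * M * g = c • M) {d : Fˣ}
    (hd : (d : F) = g.det) : d ∈ detT M := by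
  let G : GL (Fin n) F := Matrix.GeneralLinearGroup.mkOfDetNeZero g (hd ▸ d.ne_zero)
  exact Subgroup.mem_sup_right ⟨G, ⟨Units.mk0 c hc, hg⟩, Units.ext hd.symm⟩

end CfsgLib.KnownC.GraphForms.Lin
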