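import Cfsg.Prelude.Def_LieTypeDatum
import Mathlib.LinearAlgebra.Matrix.BilinearForm
import Mathlib.LinearAlgebra.Matrix.NonsingularInverse
import Mathlib.Tactic.Module
import Mathlib.Tactic.LinearCombination

/-!
# Similarity of bilinear forms given by matrices, and their similitude groups
-/

set_option autoImplicit false
set_option linter.unusedSectionVars false

namespace CfsgLib.KnownC.GraphForms

open Matrix

variable {K : Type*} [Field K] {ι κ μ : Type} [Fintype ι] [DecidableEq ι] [Fintype κ] [DecidableEq κ]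
  [Fintype μ] [DecidableEq μ]

/-- The similitudes of the bilinear form with matrix `M`. -/
def Sim (M : Matrix ι ι K) : Subgroup (GL ι K) where
  carrier := {g | ∃ c : Kˣ, (g : Matrix ι ι K)ᵀ * M * (g : Matrix ι ι K) = (c : K) • M}
  mul_mem' {a b} ha hb := by
    obtain ⟨c, hc⟩ := ha
    obtain ⟨d, hd⟩ := hb
    refine ⟨c * d, ?_⟩
    calc ((a * b : GL ι K) : Matrix ι ι K)ᵀ * M * ((a * b : GL ι K) : Matrix ι ι K)
        = (b : Matrix ι ι K)ᵀ * ((a : Matrix ι ι K)ᵀ * M * (a : Matrix ι ι K)) * (b : Matrix ι ι K) := by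
          simp only [Units.val_mul, Matrix.transpose_mul, Matrix.mul_assoc]
      _ = (c : K) • ((b : Matrix ι ι K)ᵀ * M * (b : Matrix ι ι K)) := by
          rw [hc, Matrix.mul_smul, Matrix.smul_mul]
      _ = _ := by rw [hd, smul_smul, Units.val_mul]
  one_mem' := ⟨1, by simp⟩
  inv_mem' {a} ha := by
    obtain ⟨c, hc⟩ := ha
    refine ⟨c⁻¹, ?_⟩
    have h1 : (a : Matrix ι ι K) * ((a⁻¹ : GL ι K) : Matrix ι ι K) = 1 := a.mul_inv
    calc ((a⁻¹ : GL ι K) : Matrix ι ι K)ᵀ * M * ((a⁻¹ : GL ι K) : Matrix ι ι K)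
        = (c⁻¹ : Kˣ).val • (((a⁻¹ : GL ι K) : Matrix ι ι K)ᵀ * ((c : K) • M) * ((a⁻¹ : GL ι K) : Matrix ι ι K)) := by
          rw [Matrix.mul_smul, Matrix.smul_mul, smul_smul, ← Units.val_mul, inv_mul_cancel, Units.val_one, one_smul]
      _ = (c⁻¹ : Kˣ).val • (((a : Matrix ι ι K) * ((a⁻¹ : GL ι K) : Matrix ι ι K))ᵀ * M *
            ((a : Matrix ι ι K) * ((a⁻¹ : GL ι K) : Matrix ι ι K))) := by
          rw [← hc]; simp only [Matrix.transpose_mul, Matrix.mul_assoc]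
      _ = _ := by rw [h1]; simp

theorem mem_Sim {M : Matrix ι ι K} {g : GL ι K} :
    g ∈ Sim M ↔ ∃ c : Kˣ, (g : Matrix ι ι K)ᵀ * M * (g : Matrix ι ι K) = (c : K) • M := Iff.rfl

/-- `M` and `M'` define similar forms. -/
def Similar (M : Matrix ι ι K) (M' : Matrix κ κ K) : Prop :=
  ∃ (P : Matrix ι κ K) (Q : Matrix κ ι K) (c : Kˣ), P * Q = 1 ∧ Q * P = 1 ∧ Pᵀ * M * P = (c : K) • M'

theorem Similar.refl (M : Matrix ι ι K) : Similar M M := ⟨1, 1, 1, by simp, by simp, by simp⟩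

theorem Similar.symm {M : Matrix ι ι K} {M' : Matrix κ κ K} (h : Similar M M') : Similar M' M := by
  obtain ⟨P, Q, c, h1, h2, h3⟩ := h
  refine ⟨Q, P, c⁻¹, h2, h1, ?_⟩
  have e : M' = ((c⁻¹ : Kˣ) : K) • (Pᵀ * M * P) := by
    rw [h3, smul_smul, ← Units.val_mul, inv_mul_cancel, Units.val_one, one_smul]
  calc Qᵀ * M' * Q = ((c⁻¹ : Kˣ) : K) • ((P * Q)ᵀ * M * (P * Q)) := by
        rw [e]; simp only [Matrix.transpose_mul, Matrix.mul_smul, Matrix.smul_mul, Matrix.mul_assoc]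
    _ = _ := by rw [h1]; simp

theorem Similar.trans {M : Matrix ι ι K} {M' : Matrix κ κ K} {N : Matrix μ μ K} (h : Similar M M')
    (h' : Similar M' N) : Similar M N := by
  obtain ⟨P, Q, c, h1, h2, h3⟩ := h
  obtain ⟨P', Q', c', h1', h2', h3'⟩ := h'
  refine ⟨P * P', Q' * Q, c * c', ?_, ?_, ?_⟩
  · rw [Matrix.mul_assoc, ← Matrix.mul_assoc P', h1', Matrix.one_mul, h1]
  · rw [Matrix.mul_assoc, ← Matrix.mul_assoc Q, h2, Matrix.one_mul, h2']
  · calc (P * P')ᵀ * M * (P * P') = P'ᵀ * (Pᵀ * M * P) * P' := by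
          simp only [Matrix.transpose_mul, Matrix.mul_assoc]
      _ = _ := by rw [h3, Matrix.mul_smul, Matrix.smul_mul, h3', smul_smul, Units.val_mul]

theorem similar_smul {M : Matrix ι ι K} (a : Kˣ) : Similar M ((a : K) • M) :=
  ⟨1, 1, a⁻¹, by simp, by simp, by
    rw [smul_smul, ← Units.val_mul, inv_mul_cancel, Units.val_one, one_smul]; simp⟩

theorem similar_of_mem {M M' : Matrix ι ι K} (g : GL ι K) (c : Kˣ)
    (h : (g : Matrix ι ι K)ᵀ * M * (g : Matrix ι ι K) = (c : K) • M') : Similar M M' :=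
  ⟨g, ((g⁻¹ : GL ι K) : Matrix ι ι K), c, g.mul_inv, g.inv_mul, h⟩

theorem Similar.exists_gl {M M' : Matrix ι ι K} (h : Similar M M') :
    ∃ (g : GL ι K) (c : Kˣ), (g : Matrix ι ι K)ᵀ * M * (g : Matrix ι ι K) = (c : K) • M' := by
  obtain ⟨P, Q, c, h1, h2, h3⟩ := h
  exact ⟨⟨P, Q, h1, h2⟩, c, h3⟩

/-- Conjugation by a pair of mutually inverse matrices. -/
def glConj (P : Matrix ι κ K) (Q : Matrix κ ι K) (h1 : P * Q = 1) (h2 : Q * P = 1) : GL ι K →* GL κ K where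
  toFun g := ⟨Q * (g : Matrix ι ι K) * P, Q * ((g⁻¹ : GL ι K) : Matrix ι ι K) * P, by
      rw [show Q * (g : Matrix ι ι K) * P * (Q * ((g⁻¹ : GL ι K) : Matrix ι ι K) * P) =
        Q * ((g : Matrix ι ι K) * (P * Q) * ((g⁻¹ : GL ι K) : Matrix ι ι K)) * P by simp only [Matrix.mul_assoc], h1,
        Matrix.mul_one, g.mul_inv, Matrix.mul_one, h2], by
      rw [show Q * ((g⁻¹ : GL ι K) : Matrix ι ι K) * P * (Q * (g : Matrix ι ι K) * P) =
        Q * (((g⁻¹ : GL ι K) : Matrix ι ι K) * (P * Q) * (g : Matrix ι ι K)) * P by simp only [Matrix.mul_assoc], h1,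
        Matrix.mul_one, g.inv_mul, Matrix.mul_one, h2]⟩
  map_one' := Units.ext (by simp [h2])
  map_mul' g g' := Units.ext (by
    show Q * ((g * g' : GL ι K) : Matrix ι ι K) * P = Q * (g : Matrix ι ι K) * P * (Q * (g' : Matrix ι ι K) * P)
    rw [show Q * (g : Matrix ι ι K) * P * (Q * (g' : Matrix ι ι K) * P) =
      Q * ((g : Matrix ι ι K) * (P * Q) * (g' : Matrix ι ι K)) * P by simp only [Matrix.mul_assoc], h1, Matrix.mul_one,
      Units.val_mul])

theorem glConj_val (P : Matrix ι κ K) (Q : Matrix κ ι K) (h1 : P * Q = 1) (h2 : Q * P = 1) (g : GL ι K) :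
    (glConj P Q h1 h2 g : Matrix κ κ K) = Q * (g : Matrix ι ι K) * P := rfl

theorem glConj_glConj (P : Matrix ι κ K) (Q : Matrix κ ι K) (h1 : P * Q = 1) (h2 : Q * P = 1) (g : GL ι K) :
    glConj Q P h2 h1 (glConj P Q h1 h2 g) = g := Units.ext (by
  simp only [glConj_val]
  rw [show P * (Q * (g : Matrix ι ι K) * P) * Q = P * Q * (g : Matrix ι ι K) * (P * Q) by
    simp only [Matrix.mul_assoc], h1, Matrix.one_mul, Matrix.mul_one])

/-- Conjugation as an isomorphism. -/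
def glEquiv (P : Matrix ι κ K) (Q : Matrix κ ι K) (h1 : P * Q = 1) (h2 : Q * P = 1) : GL ι K ≃* GL κ K :=
  { glConj P Q h1 h2 with
    invFun := glConj Q P h2 h1
    left_inv := glConj_glConj P Q h1 h2
    right_inv := glConj_glConj Q P h2 h1 }

theorem scalars_glEquiv (P : Matrix ι κ K) (Q : Matrix κ ι K) (h1 : P * Q = 1) (h2 : Q * P = 1) {g : GL ι K}
    (hg : g ∈ Cfsg.Geo.scalars ι K) : glEquiv P Q h1 h2 g ∈ Cfsg.Geo.scalars κ K := by
  rw [Cfsg.Geo.mem_scalars_iff] at hg ⊢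
  obtain ⟨c, hc⟩ := hg
  refine ⟨c, ?_⟩
  show Q * (g : Matrix ι ι K) * P = _
  rw [hc, Matrix.mul_smul, Matrix.smul_mul, Matrix.mul_one, h2]

/-- Isomorphic subgroups give isomorphic projective quotients. -/
theorem projQuot_congr (H : Subgroup (GL ι K)) (H' : Subgroup (GL κ K)) (P : Matrix ι κ K) (Q : Matrix κ ι K)
    (h1 : P * Q = 1) (h2 : Q * P = 1) (hH : ∀ g, g ∈ H ↔ glEquiv P Q h1 h2 g ∈ H') :
    Nonempty (Cfsg.projQuot H ≃* Cfsg.projQuot H') := by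
  have hmap : H.map (glEquiv P Q h1 h2).toMonoidHom = H' := by
    ext x
    rw [Subgroup.mem_map_equiv, hH, MulEquiv.apply_symm_apply]
  let e : H ≃* H' :=
    (H.equivMapOfInjective _ (glEquiv P Q h1 h2).injective).trans (MulEquiv.subgroupCongr hmap)
  refine ⟨QuotientGroup.congr _ _ e ?_⟩
  ext x
  refine Subgroup.mem_map_equiv.trans ?_
  rw [Subgroup.mem_subgroupOf, Subgroup.mem_subgroupOf]
  constructor
  · intro h
    have := scalars_glEquiv P Q h1 h2 h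
    rwa [show glEquiv P Q h1 h2 ((e.symm x : H) : GL ι K) = (x : GL κ K) from
      congrArg Subtype.val (e.apply_symm_apply x)] at this
  · intro h
    have := scalars_glEquiv Q P h2 h1 h
    rwa [show glEquiv Q P h2 h1 (x : GL κ K) = ((e.symm x : H) : GL ι K) from by
      conv_lhs => rw [← e.apply_symm_apply x]
      exact glConj_glConj P Q h1 h2 _] at this

theorem Similar.mem_sim_iff {M : Matrix ι ι K} {M' : Matrix κ κ K} {P : Matrix ι κ K} {Q : Matrix κ ι K} {c : Kˣ}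
    (h1 : P * Q = 1) (h2 : Q * P = 1) (h3 : Pᵀ * M * P = (c : K) • M') (g : GL ι K) :
    g ∈ Sim M ↔ glEquiv P Q h1 h2 g ∈ Sim M' := by
  have key : ∀ g : GL ι K, (c : K) • ((glEquiv P Q h1 h2 g : Matrix κ κ K)ᵀ * M' * (glEquiv P Q h1 h2 g : Matrix κ κ K)) =
      Pᵀ * ((g : Matrix ι ι K)ᵀ * M * (g : Matrix ι ι K)) * P := fun g => by
    rw [← Matrix.smul_mul, ← Matrix.mul_smul, ← h3]
    show (Q * (g : Matrix ι ι K) * P)ᵀ * (Pᵀ * M * P) * (Q * (g : Matrix ι ι K) * P) = _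
    calc (Q * (g : Matrix ι ι K) * P)ᵀ * (Pᵀ * M * P) * (Q * (g : Matrix ι ι K) * P)
        = Pᵀ * ((g : Matrix ι ι K)ᵀ * (P * Q)ᵀ * M * (P * Q) * (g : Matrix ι ι K)) * P := by
          simp only [Matrix.transpose_mul, Matrix.mul_assoc]
      _ = _ := by rw [h1]; simp
  constructor
  · rintro ⟨d, hd⟩
    refine ⟨d, smul_right_injective _ c.ne_zero ?_⟩
    show (c : K) • _ = (c : K) • _
    rw [key, hd, Matrix.mul_smul, Matrix.smul_mul, h3, smul_comm]
  · rintro ⟨d, hd⟩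
    refine ⟨d, ?_⟩
    have h := key g
    rw [hd, smul_comm, ← h3] at h
    have h' := congrArg (fun X => Qᵀ * X * Q) h
    simp only [Matrix.mul_smul, Matrix.smul_mul, ← Matrix.mul_assoc] at h'
    rw [← Matrix.transpose_mul, h1, Matrix.transpose_one, Matrix.one_mul] at h'
    simp only [Matrix.mul_assoc, h1, Matrix.mul_one] at h'
    simp only [← Matrix.mul_assoc, Matrix.one_mul] at h'
    exact h'.symm

/-- Similar forms have isomorphic projective similitude groups. -/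
theorem Similar.projSim {M : Matrix ι ι K} {M' : Matrix κ κ K} (h : Similar M M') :
    Nonempty (Cfsg.projQuot (Sim M) ≃* Cfsg.projQuot (Sim M')) := by
  obtain ⟨P, Q, c, h1, h2, h3⟩ := h
  exact projQuot_congr _ _ P Q h1 h2 (Similar.mem_sim_iff h1 h2 h3)

theorem dot_mul (M : Matrix ι ι K) (g : Matrix ι ι K) (u v : ι → K) :
    (g *ᵥ u) ⬝ᵥ (M *ᵥ (g *ᵥ v)) = u ⬝ᵥ ((gᵀ * M * g) *ᵥ v) := by
  rw [← Matrix.mulVec_mulVec, ← Matrix.mulVec_mulVec, Matrix.dotProduct_mulVec u gᵀ, Matrix.vecMul_transpose]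

theorem ext_dot {M M' : Matrix ι ι K} (h : ∀ u v, u ⬝ᵥ (M *ᵥ v) = u ⬝ᵥ (M' *ᵥ v)) : M = M' :=
  Matrix.ext fun i j => by simpa using h (Pi.single i 1) (Pi.single j 1)

theorem similarityGroup_eq (M : Matrix ι ι K) :
    Cfsg.Geo.similarityGroup (fun u v => u ⬝ᵥ (M *ᵥ v)) = Sim M := by
  ext g
  constructor
  · rintro ⟨c, hc⟩
    refine ⟨c, ext_dot fun u v => ?_⟩
    simp only at hc
    rw [← dot_mul, hc, Matrix.smul_mulVec, dotProduct_smul, smul_eq_mul]
  · rintro ⟨c, hc⟩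
    refine ⟨c, fun u v => ?_⟩
    show _ ⬝ᵥ (M *ᵥ _) = (c : K) * (u ⬝ᵥ (M *ᵥ v))
    rw [dot_mul, hc, Matrix.smul_mulVec, dotProduct_smul, smul_eq_mul]

theorem gsp_eq (m : ℕ) : Cfsg.GSp m K = Sim (Matrix.J (Fin m) K) := similarityGroup_eq _

/-- Quadratic similitudes in odd characteristic. -/
theorem quadSim_eq (h2 : (2 : K) ≠ 0) (Qf : (ι → K) → K) (M : Matrix ι ι K) (hM : Mᵀ = M)
    (hQ : ∀ v, 2 * Qf v = v ⬝ᵥ (M *ᵥ v)) : Cfsg.Geo.quadSimilarityGroup (F := K) Qf = Sim M := by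
  ext g
  constructor
  · rintro ⟨c, hc⟩
    refine ⟨c, ext_dot fun u v => ?_⟩
    have e : ∀ w, w ⬝ᵥ (((g : Matrix ι ι K)ᵀ * M * (g : Matrix ι ι K)) *ᵥ w) = (c : K) * (w ⬝ᵥ (M *ᵥ w)) := fun w => by
      rw [← dot_mul, ← hQ, ← hQ, hc]; ring
    have hsym : ∀ (N : Matrix ι ι K), Nᵀ = N → ∀ u v, v ⬝ᵥ (N *ᵥ u) = u ⬝ᵥ (N *ᵥ v) := fun N hN u v => by
      rw [Matrix.dotProduct_mulVec, ← Matrix.mulVec_transpose, hN, dotProduct_comm]
    have hN : ((g : Matrix ι ι K)ᵀ * M * (g : Matrix ι ι K))ᵀ = (g : Matrix ι ι K)ᵀ * M * (g : Matrix ι ι K) := by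
      rw [Matrix.transpose_mul, Matrix.transpose_mul, Matrix.transpose_transpose, hM, Matrix.mul_assoc]
    have h := e (u + v)
    simp only [Matrix.mulVec_add, dotProduct_add, add_dotProduct, e u, e v, hsym _ hN u v, hsym M hM u v] at h
    rw [Matrix.smul_mulVec, dotProduct_smul, smul_eq_mul]
    exact mul_left_cancel₀ h2 (by linear_combination h)
  · rintro ⟨c, hc⟩
    refine ⟨c, fun v => mul_left_cancel₀ h2 ?_⟩
    rw [mul_left_comm, hQ, hQ, dot_mul, hc, Matrix.smul_mulVec, dotProduct_smul, smul_eq_mul]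

end CfsgLib.KnownC.GraphForms
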