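import Cfsg.Agent.Lib.KnownC.GraphForms.Facts

/-!
# The similarity classes in odd characteristic
-/

set_option autoImplicit false
set_option linter.unusedSectionVars false

namespace CfsgLib.KnownC.GraphForms

open Matrix

variable {K : Type*} [Field K] {ι : Type} [Fintype ι] [DecidableEq ι]

theorem exists_anisotropic [Finite K] (h2 : (2 : K) ≠ 0) :
    ∃ a b : K, ∀ z₁ z₂ : K, z₁ ^ 2 + a * z₁ * z₂ + b * z₂ ^ 2 = 0 → z₁ = 0 ∧ z₂ = 0 := by
  have h2' : ringChar K ≠ 2 := fun h => h2 (by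
    haveI : CharP K 2 := h ▸ ringChar.charP K
    exact CharTwo.two_eq_zero)
  obtain ⟨x, hx⟩ := FiniteField.exists_nonsquare h2'
  refine ⟨0, -x, fun z₁ z₂ h => ?_⟩
  by_cases hz : z₂ = 0
  · subst hz; exact ⟨by simpa using h, rfl⟩
  · exact (hx ⟨z₁ / z₂, by field_simp; linear_combination -h⟩).elim

theorem exists_reindex {κ : Type} [Fintype κ] [DecidableEq κ] (N : Matrix κ κ K) (hN : N.det ≠ 0)
    (hc : Fintype.card ι = Fintype.card κ) :
    ∃ M : GL ι K, Similar (M : Matrix ι ι K) N ∧ ∀ ε : K, Nᵀ = ε • N → (M : Matrix ι ι K)ᵀ = ε • (M : Matrix ι ι K) := by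
  let e : ι ≃ κ := Fintype.equivOfCardEq hc
  have hd : (N.submatrix e e).det ≠ 0 := by rwa [Matrix.det_submatrix_equiv_self]
  refine ⟨Matrix.GeneralLinearGroup.mkOfDetNeZero _ hd, ?_, fun ε h => ?_⟩
  · refine ⟨(1 : Matrix κ κ K).submatrix e id, (1 : Matrix κ κ K).submatrix id e, 1, ?_, ?_, ?_⟩
    · rw [← Matrix.submatrix_mul _ _ e id e Function.bijective_id, Matrix.mul_one, Matrix.submatrix_one_equiv]
    · rw [← Matrix.submatrix_mul _ _ id e id e.bijective, Matrix.mul_one, Matrix.submatrix_id_id]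
    · show ((1 : Matrix κ κ K).submatrix e id)ᵀ * N.submatrix e e * (1 : Matrix κ κ K).submatrix e id = _
      rw [Matrix.transpose_submatrix, Matrix.transpose_one, ← Matrix.submatrix_mul _ _ id e e e.bijective,
        ← Matrix.submatrix_mul _ _ id e id e.bijective, Matrix.one_mul, Matrix.mul_one, Matrix.submatrix_id_id,
        Units.val_one, one_smul]
  · show (N.submatrix e e)ᵀ = ε • N.submatrix e e
    rw [Matrix.transpose_submatrix, h]
    rfl

theorem J_det_ne (m : ℕ) : (Matrix.J (Fin m) K).det ≠ 0 := (Matrix.isUnit_det_J (Fin m) K).ne_zero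

theorem card_minus {m : ℕ} (hm : 1 ≤ m) : Fintype.card ((Fin (m - 1) ⊕ Fin (m - 1)) ⊕ Fin 2) = 2 * m := by
  simp only [Fintype.card_sum, Fintype.card_fin]; omega

theorem card_plus (m : ℕ) : Fintype.card (Fin m ⊕ Fin m) = 2 * m := by
  simp only [Fintype.card_sum, Fintype.card_fin]; omega

theorem card_odd_form (m : ℕ) : Fintype.card (Unit ⊕ (Fin m ⊕ Fin m)) = 2 * m + 1 := by
  simp only [Fintype.card_sum, Fintype.card_fin, Fintype.card_unit]; omega

theorem one_ne_neg_one' (h2 : (2 : K) ≠ 0) : (1 : K) ≠ -1 := fun h => h2 (by linear_combination h)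

theorem similar_plus_of [Finite K] (h2 : (2 : K) ≠ 0) {M : Matrix ι ι K} (hM : Mᵀ = M) (hu : M.det ≠ 0) {m : ℕ}
    (hm : Fintype.card ι = 2 * m) (hd : IsSquare (M.det * (-1) ^ m)) : Similar M (Mplus m K) := by
  obtain ⟨h0, s, hs⟩ := Mplus_det h2 m
  refine (congr_of_isSquare h2 hM (Mplus_transpose m) (hm.trans (card_plus m).symm) hu h0 ?_).similar
  obtain ⟨t, ht⟩ := hd
  refine ⟨t * s, ?_⟩
  calc M.det * (Mplus m K).det = (M.det * (-1) ^ m) * ((Mplus m K).det * (-1) ^ m) := by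
        have h : ((-1 : K) ^ m) * (-1) ^ m = 1 := by rw [← mul_pow]; norm_num
        linear_combination -(M.det * (Mplus m K).det) * h
    _ = _ := by rw [hs, ht]; ring

theorem nonsquare_mul [Finite K] {x y : K} (hx : ¬ IsSquare x) (hy : ¬ IsSquare y) : IsSquare (x * y) := by
  classical
  have := Fintype.ofFinite K
  have hx0 : x ≠ 0 := fun h => hx (h ▸ IsSquare.zero)
  have hy0 : y ≠ 0 := fun h => hy (h ▸ IsSquare.zero)
  rw [← quadraticChar_one_iff_isSquare (mul_ne_zero hx0 hy0), map_mul, (quadraticChar_neg_one_iff_not_isSquare).2 hx,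
    (quadraticChar_neg_one_iff_not_isSquare).2 hy]
  norm_num

theorem similar_minus_of [Finite K] (h2 : (2 : K) ≠ 0) {M : Matrix ι ι K} (hM : Mᵀ = M) (hu : M.det ≠ 0) {m : ℕ}
    (hm : Fintype.card ι = 2 * m) (hm1 : 1 ≤ m) (hd : ¬ IsSquare (M.det * (-1) ^ m)) {a b : K}
    (hab : ∀ z₁ z₂ : K, z₁ ^ 2 + a * z₁ * z₂ + b * z₂ ^ 2 = 0 → z₁ = 0 ∧ z₂ = 0) :
    Similar M (Mminus (m - 1) K a b) := by
  obtain ⟨h0, hns⟩ := Mminus_det h2 (m - 1) hab
  rw [show m - 1 + 1 = m by omega] at hns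
  refine (congr_of_isSquare h2 hM (Mminus_transpose _ a b) (hm.trans (card_minus hm1).symm) hu h0 ?_).similar
  have h := nonsquare_mul hd hns
  rwa [mul_mul_mul_comm, ← mul_pow, neg_mul_neg, one_mul, one_pow, mul_one] at h

/-- The three classes in even dimension. -/
theorem trichotomy [Finite K] (h2 : (2 : K) ≠ 0) {M : Matrix ι ι K} (hu : M.det ≠ 0) {ε : K} (hM : Mᵀ = ε • M)
    (hε : ε = 1 ∨ ε = -1) {m : ℕ} (hm : Fintype.card ι = 2 * m) (hm1 : 1 ≤ m) {a b : K}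
    (hab : ∀ z₁ z₂ : K, z₁ ^ 2 + a * z₁ * z₂ + b * z₂ ^ 2 = 0 → z₁ = 0 ∧ z₂ = 0) :
    (ε = -1 ∧ Similar M (Matrix.J (Fin m) K)) ∨ (ε = 1 ∧ Similar M (Mplus m K)) ∨
      (ε = 1 ∧ Similar M (Mminus (m - 1) K a b)) := by
  rcases hε with rfl | rfl
  · rw [one_smul] at hM
    by_cases hd : IsSquare (M.det * (-1) ^ m)
    · exact Or.inr (Or.inl ⟨rfl, similar_plus_of h2 hM hu hm hd⟩)
    · exact Or.inr (Or.inr ⟨rfl, similar_minus_of h2 hM hu hm hm1 hd hab⟩)
  · obtain ⟨m', hm', hs⟩ := similar_J (alt_of_neg h2 (by rw [hM, neg_one_smul])) hu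
    obtain rfl : m' = m := by omega
    exact Or.inl ⟨rfl, hs⟩

theorem not_similar_J_sym (h2 : (2 : K) ≠ 0) {κ : Type} [Fintype κ] [DecidableEq κ] {m : ℕ} {N : Matrix κ κ K}
    (hN : Nᵀ = N) (hu : N.det ≠ 0) (hne : Nonempty κ) : ¬ Similar (Matrix.J (Fin m) K) N := fun h => by
  have e := h.transpose_smul (ε := -1) (by rw [Matrix.J_transpose, neg_one_smul])
  rw [hN, neg_one_smul] at e
  refine hu ?_
  rw [show N = 0 from Matrix.ext fun i j => ?_, Matrix.det_zero]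
  have := congrFun (congrFun e i) j
  rw [Matrix.neg_apply] at this
  exact (mul_eq_zero.1 (by linear_combination this : (2 : K) * N i j = 0)).resolve_left h2

theorem not_similar_plus_minus [Finite K] (h2 : (2 : K) ≠ 0) {m : ℕ} (hm1 : 1 ≤ m) {a b : K}
    (hab : ∀ z₁ z₂ : K, z₁ ^ 2 + a * z₁ * z₂ + b * z₂ ^ 2 = 0 → z₁ = 0 ∧ z₂ = 0) :
    ¬ Similar (Mplus m K) (Mminus (m - 1) K a b) := fun h => by
  obtain ⟨h0, s, hs⟩ := Mplus_det h2 m
  obtain ⟨h0', hns⟩ := Mminus_det h2 (m - 1) hab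
  rw [show m - 1 + 1 = m by omega] at hns
  obtain ⟨t, ht⟩ := h.isSquare ((card_plus m).trans (card_minus hm1).symm) (by rw [card_plus]; exact even_two_mul m)
  refine hns ⟨t / s, ?_⟩
  have hs0 : s ≠ 0 := fun e => by
    rw [e, mul_zero] at hs
    exact mul_ne_zero h0 (pow_ne_zero _ (neg_ne_zero.2 one_ne_zero)) hs
  have hsgn : ((-1 : K) ^ m) * (-1) ^ m = 1 := by rw [← mul_pow]; norm_num
  field_simp
  linear_combination ((-1) ^ m * (-1) ^ m) * ht + (Mminus (m - 1) K a b).det * (-1) ^ m * (-hs) + t * t * hsgn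

end CfsgLib.KnownC.GraphForms
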