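import Cfsg.Agent.Lib.KnownC.AutPSU.Field

/-!
# Indices of groups of powers in cyclic groups
-/

set_option autoImplicit false
set_option linter.unusedSectionVars false

namespace CfsgLib.KnownC.GraphForms

variable {G : Type*} [CommGroup G] [Finite G] [IsCyclic G]

theorem mem_pow_range {d v : G} {n : ℕ} (h : d ^ 2 = v ^ n) (ho : Odd n ∨ Odd (Nat.card G)) :
    d ∈ (powMonoidHom n : G →* G).range := by
  rcases ho with ⟨k, hk⟩ | hodd
  · refine ⟨d * (v ^ k)⁻¹, ?_⟩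
    show (d * (v ^ k)⁻¹) ^ n = d
    have e : d ^ n = (v ^ k) ^ n * d := by
      rw [hk, pow_succ d (2 * k), pow_mul, h, ← hk, ← pow_mul, ← pow_mul, mul_comm n k]
    rw [mul_pow, inv_pow, e, mul_inv_eq_iff_eq_mul, mul_comm]
  · have hc : (Nat.card G).Coprime 2 := Nat.coprime_two_right.2 hodd
    obtain ⟨w, rfl⟩ : ∃ w, w ^ 2 = v := ⟨_, (powCoprime hc).apply_symm_apply v⟩
    refine ⟨w, (powCoprime hc).injective ?_⟩
    show ((w ^ n : G)) ^ 2 = d ^ 2
    rw [h, ← pow_mul, ← pow_mul, mul_comm]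

theorem index_full {n : ℕ} {T : Subgroup G} (hP : (powMonoidHom n : G →* G).range ≤ T)
    (h : ∀ d ∈ T, ∃ v, d ^ 2 = v ^ n) (ho : Odd n ∨ Odd (Nat.card G)) : T.index = Nat.gcd n (Nat.card G) := by
  rw [show T = (powMonoidHom n : G →* G).range from le_antisymm (fun d hd => by
    obtain ⟨v, hv⟩ := h d hd
    exact mem_pow_range hv ho) hP, IsCyclic.index_powMonoidHom_range, Nat.gcd_comm]

theorem index_alt {m : ℕ} {T : Subgroup G} (h : ∀ d, d ∈ T ↔ ∃ v, d = v ^ m) :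
    T.index = Nat.gcd m (Nat.card G) := by
  rw [show T = (powMonoidHom m : G →* G).range from Subgroup.ext fun d => (h d).trans
    ⟨fun ⟨v, e⟩ => ⟨v, e.symm⟩, fun ⟨v, e⟩ => ⟨v, e.symm⟩⟩, IsCyclic.index_powMonoidHom_range, Nat.gcd_comm]

theorem index_sym {m : ℕ} {T : Subgroup G} {z : G} (hz : z ^ 2 = 1) (hz1 : z ≠ 1) (hzT : z ∈ T)
    (h1 : ∀ d ∈ T, ∃ v, d = v ^ m ∨ d = v ^ m * z) (h2 : ∀ v : G, v ^ m ∈ T ∨ v ^ m * z ∈ T) :
    T.index = Nat.gcd (2 * m) (Nat.card G) / 2 := by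
  have hcard : Nat.card (Subgroup.zpowers z) = 2 := by
    rw [Nat.card_zpowers]; exact orderOf_eq_prime hz hz1
  have hT : T = (powMonoidHom m : G →* G).range ⊔ Subgroup.zpowers z := by
    refine le_antisymm (fun d hd => ?_) (sup_le ?_ ((Subgroup.zpowers_le).2 hzT))
    · obtain ⟨v, rfl | rfl⟩ := h1 d hd
      · exact Subgroup.mem_sup_left ⟨v, rfl⟩
      · exact Subgroup.mul_mem_sup ⟨v, rfl⟩ (Subgroup.mem_zpowers z)
    · rintro _ ⟨v, rfl⟩
      rcases h2 v with h | h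
      · exact h
      · simpa using T.mul_mem h (T.inv_mem hzT)
  rw [hT, AutPSU.gcd_index_sup]
  have hm := Subgroup.card_mul_index (Subgroup.zpowers z)
  rw [hcard] at hm
  rw [← hm, Nat.gcd_mul_left, Nat.mul_div_cancel_left _ (by norm_num : 0 < 2)]

end CfsgLib.KnownC.GraphForms
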