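import Cfsg.Agent.Lib.KnownC.GraphForms.Classify
import Mathlib.LinearAlgebra.SymplecticGroup

/-!
# Determinants of similitudes
-/

set_option autoImplicit false
set_option linter.unusedSectionVars false

namespace CfsgLib.KnownC.GraphForms

open Matrix

variable {K : Type*} [Field K] {ι κ : Type} [Fintype ι] [DecidableEq ι] [Fintype κ] [DecidableEq κ]

theorem det_conj (P : Matrix ι κ K) (Q : Matrix κ ι K) (h1 : P * Q = 1) (h2 : Q * P = 1) (g : Matrix ι ι K) :
    (Q * g * P).det = g.det := by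
  have hc : Fintype.card ι = Fintype.card κ := Matrix.square_of_invertible P Q h1 h2
  let e : ι ≃ κ := Fintype.equivOfCardEq hc
  rw [← Matrix.det_submatrix_equiv_self e,
    show (Q * g * P).submatrix e e = Q.submatrix e id * g * P.submatrix id e from rfl, Matrix.det_mul, Matrix.det_mul,
    mul_comm (Q.submatrix e id).det, mul_assoc, ← Matrix.det_mul,
    show Q.submatrix e id * P.submatrix id e = (Q * P).submatrix e e from rfl, h2, Matrix.det_submatrix_equiv_self,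
    Matrix.det_one, mul_one]

theorem card_eq_of_similar {M : Matrix ι ι K} {M' : Matrix κ κ K} (h : Similar M M') :
    Fintype.card ι = Fintype.card κ := by
  obtain ⟨P, Q, c, h1, h2, -⟩ := h
  exact Matrix.square_of_invertible P Q h1 h2

/-- A similitude transported to a similar form. -/
theorem transport {M : Matrix ι ι K} {M' : Matrix κ κ K} {P : Matrix ι κ K} {Q : Matrix κ ι K} {k : K}
    (h1 : P * Q = 1) (h2 : Q * P = 1) (hk : k ≠ 0) (h3 : Pᵀ * M * P = k • M') {g : Matrix ι ι K} {c : K}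
    (hg : gᵀ * M * g = c • M) :
    (Q * g * P)ᵀ * M' * (Q * g * P) = c • M' ∧ (Q * g * P).det = g.det := by
  refine ⟨smul_right_injective _ hk ?_, det_conj P Q h1 h2 g⟩
  show k • _ = k • _
  rw [← Matrix.smul_mul, ← Matrix.mul_smul, ← h3]
  calc (Q * g * P)ᵀ * (Pᵀ * M * P) * (Q * g * P) = Pᵀ * (gᵀ * (P * Q)ᵀ * M * (P * Q) * g) * P := by
        simp only [Matrix.transpose_mul, Matrix.mul_assoc]
    _ = Pᵀ * (gᵀ * M * g) * P := by rw [h1]; simp
    _ = _ := by rw [hg, Matrix.mul_smul, Matrix.smul_mul, h3, smul_comm]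

theorem sim_det_sq {M : Matrix ι ι K} (hu : M.det ≠ 0) {g : Matrix ι ι K} {c : K} (hg : gᵀ * M * g = c • M) :
    g.det ^ 2 = c ^ Fintype.card ι := by
  have h := congrArg Matrix.det hg
  rw [Matrix.det_mul, Matrix.det_mul, Matrix.det_transpose, Matrix.det_smul] at h
  exact mul_right_cancel₀ hu (by linear_combination h)

theorem alt_of_neg (h2 : (2 : K) ≠ 0) {M : Matrix ι ι K} (hM : Mᵀ = -M) (v : ι → K) : v ⬝ᵥ (M *ᵥ v) = 0 := by
  have h : v ⬝ᵥ (M *ᵥ v) = -(v ⬝ᵥ (M *ᵥ v)) := by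
    conv_lhs => rw [dotProduct_comm, ← Matrix.vecMul_transpose, ← Matrix.dotProduct_mulVec, hM, Matrix.neg_mulVec,
      dotProduct_neg]
  exact (mul_eq_zero.1 (by linear_combination h : (2 : K) * (v ⬝ᵥ (M *ᵥ v)) = 0)).resolve_left h2

theorem neg_of_alt {M : Matrix ι ι K} (hM : ∀ v, v ⬝ᵥ (M *ᵥ v) = 0) : Mᵀ = -M := by
  refine ext_dot fun u v => ?_
  have h := hM (u + v)
  simp only [Matrix.mulVec_add, dotProduct_add, add_dotProduct, hM u, hM v, zero_add, add_zero] at h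
  rw [Matrix.neg_mulVec, dotProduct_neg, Matrix.mulVec_transpose, dotProduct_comm, ← Matrix.dotProduct_mulVec]
  linear_combination h

/-- The similitude `(x, y) ↦ (c x, y)`. -/
def dJ (m : ℕ) (c : K) : Matrix (Fin m ⊕ Fin m) (Fin m ⊕ Fin m) K := Matrix.fromBlocks (c • 1) 0 0 1

theorem dJ_spec (m : ℕ) (c : K) : (dJ m c)ᵀ * Matrix.J (Fin m) K * dJ m c = c • Matrix.J (Fin m) K := by
  simp [dJ, Matrix.J, Matrix.fromBlocks_transpose, Matrix.fromBlocks_multiply, Matrix.fromBlocks_smul]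

theorem dJ_det (m : ℕ) (c : K) : (dJ m c).det = c ^ m := by
  rw [dJ, Matrix.det_fromBlocks_zero₁₂, Matrix.det_smul, Matrix.det_one, mul_one, mul_one,
    Fintype.card_fin]

theorem J_sim_det {m : ℕ} {g : Matrix (Fin m ⊕ Fin m) (Fin m ⊕ Fin m) K} {c : K} (hc : c ≠ 0)
    (hg : gᵀ * Matrix.J (Fin m) K * g = c • Matrix.J (Fin m) K) : g.det = c ^ m := by
  have h : (g * dJ m c⁻¹) ∈ Matrix.symplecticGroup (Fin m) K := by
    rw [SymplecticGroup.mem_iff']
    calc (g * dJ m c⁻¹)ᵀ * Matrix.J (Fin m) K * (g * dJ m c⁻¹)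
        = (dJ m c⁻¹)ᵀ * (gᵀ * Matrix.J (Fin m) K * g) * dJ m c⁻¹ := by
          simp only [Matrix.transpose_mul, Matrix.mul_assoc]
      _ = _ := by rw [hg, Matrix.mul_smul, Matrix.smul_mul, dJ_spec, smul_smul, mul_inv_cancel₀ hc, one_smul]
  have hd := SymplecticGroup.det_eq_one h
  rw [Matrix.det_mul, dJ_det, inv_pow] at hd
  exact eq_of_mul_inv_eq_one hd

/-- Alternating forms: every similitude has determinant `c ^ m`, and every multiplier occurs. -/
theorem sim_det_alt {M : Matrix ι ι K} (hM : ∀ v, v ⬝ᵥ (M *ᵥ v) = 0) (hu : M.det ≠ 0) {m : ℕ}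
    (hm : Fintype.card ι = 2 * m) :
    (∀ (g : Matrix ι ι K) (c : K), c ≠ 0 → gᵀ * M * g = c • M → g.det = c ^ m) ∧
      ∀ c : K, ∃ g : Matrix ι ι K, gᵀ * M * g = c • M ∧ g.det = c ^ m := by
  obtain ⟨m', hm', hs⟩ := similar_J hM hu
  obtain rfl : m' = m := by omega
  obtain ⟨P, Q, k, h1, h2, h3⟩ := hs
  obtain ⟨P', Q', k', h1', h2', h3'⟩ := Similar.symm (⟨P, Q, k, h1, h2, h3⟩ : Similar M (Matrix.J (Fin m') K))
  refine ⟨fun g c hc hg => ?_, fun c => ?_⟩
  · obtain ⟨hg', hd⟩ := transport h1 h2 k.ne_zero h3 hg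
    rw [← hd]
    exact J_sim_det hc hg'
  · obtain ⟨hg', hd⟩ := transport h1' h2' k'.ne_zero h3' (dJ_spec m' c)
    exact ⟨_, hg', hd.trans (dJ_det m' c)⟩

/-- Symmetric forms in even dimension: every multiplier occurs, and so does the determinant `-1`. -/
theorem sim_det_sym [Finite K] (h2 : (2 : K) ≠ 0) {M : Matrix ι ι K} (hM : Mᵀ = M) (hu : M.det ≠ 0) {m : ℕ}
    (hm : Fintype.card ι = 2 * m) (hm0 : 0 < m) :
    (∀ (g : Matrix ι ι K) (c : K), gᵀ * M * g = c • M → g.det = c ^ m ∨ g.det = -(c ^ m)) ∧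
      (∀ c : K, c ≠ 0 → ∃ g : Matrix ι ι K, gᵀ * M * g = c • M) ∧
      ∃ g : Matrix ι ι K, gᵀ * M * g = M ∧ g.det = -1 := by
  refine ⟨fun g c hg => ?_, fun c hc => ?_, ?_⟩
  · have h := sim_det_sq hu hg
    rw [hm, two_mul, pow_add, pow_two] at h
    exact mul_self_eq_mul_self_iff.1 h
  · obtain ⟨P, Q, -, -, h⟩ := congr_of_isSquare h2 hM (M' := c • M) (by rw [Matrix.transpose_smul, hM]) rfl hu
      (by rw [Matrix.det_smul]; exact mul_ne_zero (pow_ne_zero _ hc) hu)
      ⟨c ^ m * M.det, by rw [Matrix.det_smul, hm]; ring⟩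
    exact ⟨P, h⟩
  · obtain ⟨k, hk⟩ := Nat.exists_eq_succ_of_ne_zero (by omega : Fintype.card ι ≠ 0)
    obtain ⟨δ, -, -, P, Q, h1, h1', h3⟩ := similar_diagForm h2 hM hu hk
    have h3' : Qᵀ * (Matrix.diagonal fun i : Fin (k + 1) => if i = Fin.last k then δ else 1) * Q = (1 : K) • M := by
      rw [← h3, one_smul]
      calc Qᵀ * (Pᵀ * M * P) * Q = (P * Q)ᵀ * M * (P * Q) := by simp only [Matrix.transpose_mul, Matrix.mul_assoc]
        _ = M := by rw [h1]; simp
    let R : Matrix (Fin (k + 1)) (Fin (k + 1)) K := Matrix.diagonal fun i => if i = 0 then -1 else 1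
    have hR : Rᵀ * (Matrix.diagonal fun i : Fin (k + 1) => if i = Fin.last k then δ else 1) * R =
        (1 : K) • Matrix.diagonal fun i : Fin (k + 1) => if i = Fin.last k then δ else 1 := by
      rw [one_smul, Matrix.diagonal_transpose, Matrix.diagonal_mul_diagonal, Matrix.diagonal_mul_diagonal]
      congr 1
      funext i
      by_cases hi : i = 0
      · rw [if_pos hi]; ring
      · rw [if_neg hi]; ring
    obtain ⟨hg, hd⟩ := transport h1' h1 one_ne_zero h3' hR
    refine ⟨_, by rw [hg, one_smul], hd.trans ?_⟩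
    simp [R, Matrix.det_diagonal, Finset.prod_ite_eq']

end CfsgLib.KnownC.GraphForms
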