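import Cfsg.Agent.Lib.KnownC.GraphForms.Lin
import Cfsg.Agent.Lib.KnownC.GraphForms.Classes

/-!
# The classes of involutory graph automorphisms of `PSL_n`
-/

set_option autoImplicit false
set_option linter.unusedSectionVars false

namespace CfsgLib.KnownC.GraphForms.Lin

open Matrix CfsgLib.KnownC.AutPSL

variable {F : Type*} [Field F] [Fintype F] {n : ℕ}

/-- A representative for a given form. -/
theorem exists_rep (hn : 3 ≤ n) {κ : Type} [Fintype κ] [DecidableEq κ] (N : Matrix κ κ F) (hN : N.det ≠ 0)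
    (hc : Fintype.card κ = n) {ε : F} (hε : Nᵀ = ε • N) :
    ∃ M : GL (Fin n) F, Similar (M : Matrix (Fin n) (Fin n) F) N ∧ Cfsg.IsGraphAutClassPSL (gInv M) ∧
      orderOf (gInv M) = 2 := by
  obtain ⟨M, hs, ht⟩ := exists_reindex (ι := Fin n) N hN (by rw [Fintype.card_fin, hc])
  exact ⟨M, hs, graph_gInv hn M, orderOf_gInv hn M (ht ε hε)⟩

theorem iso_of_eq (hn : 3 ≤ n) {κ : Type} [Fintype κ] [DecidableEq κ] {H : Subgroup (GL κ F)} {N : Matrix κ κ F}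
    (hH : H = Sim N) {M : GL (Fin n) F} (h : Similar (M : Matrix (Fin n) (Fin n) F) N) :
    Nonempty (↥(Cfsg.inndiagPSL n F ⊓ Subgroup.centralizer {gInv M}) ≃* Cfsg.projQuot H) := by
  subst hH
  exact centralizer_similar hn M h

theorem pgsp_iso (hn : 3 ≤ n) {M : GL (Fin n) F} {m : ℕ}
    (h : Similar (M : Matrix (Fin n) (Fin n) F) (Matrix.J (Fin m) F)) :
    Nonempty (↥(Cfsg.inndiagPSL n F ⊓ Subgroup.centralizer {gInv M}) ≃* Cfsg.PGSp m F) :=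
  iso_of_eq hn (gsp_eq m) h

theorem classes_odd_char (h2 : (2 : F) ≠ 0) {m : ℕ} (hm : 2 ≤ m) (hnm : n = 2 * m) :
    ∃ (γ₁ γ₂ γ₃ : MulAut (Matrix.ProjectiveSpecialLinearGroup (Fin n) F)) (a b : F),
      (∀ z₁ z₂ : F, z₁ ^ 2 + a * z₁ * z₂ + b * z₂ ^ 2 = 0 → z₁ = 0 ∧ z₂ = 0) ∧
      Cfsg.IsGraphAutClassPSL γ₁ ∧ orderOf γ₁ = 2 ∧ Cfsg.IsGraphAutClassPSL γ₂ ∧ orderOf γ₂ = 2 ∧
      Cfsg.IsGraphAutClassPSL γ₃ ∧ orderOf γ₃ = 2 ∧ ¬ Cfsg.IsConjUnder (Cfsg.inndiagPSL n F) γ₁ γ₂ ∧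
      ¬ Cfsg.IsConjUnder (Cfsg.inndiagPSL n F) γ₁ γ₃ ∧ ¬ Cfsg.IsConjUnder (Cfsg.inndiagPSL n F) γ₂ γ₃ ∧
      (∀ γ : MulAut (Matrix.ProjectiveSpecialLinearGroup (Fin n) F), Cfsg.IsGraphAutClassPSL γ → orderOf γ = 2 →
        Cfsg.IsConjUnder (Cfsg.inndiagPSL n F) γ₁ γ ∨ Cfsg.IsConjUnder (Cfsg.inndiagPSL n F) γ₂ γ ∨
          Cfsg.IsConjUnder (Cfsg.inndiagPSL n F) γ₃ γ) ∧
      Nonempty (↥(Cfsg.inndiagPSL n F ⊓ Subgroup.centralizer {γ₁}) ≃* Cfsg.PGSp m F) ∧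
      Nonempty (↥(Cfsg.inndiagPSL n F ⊓ Subgroup.centralizer {γ₂}) ≃* Cfsg.PGO F (Cfsg.quadFormPlus m F)) ∧
      Nonempty (↥(Cfsg.inndiagPSL n F ⊓ Subgroup.centralizer {γ₃}) ≃*
        Cfsg.PGO F (Cfsg.quadFormMinus (m - 1) F a b)) := by
  have hn : 3 ≤ n := by omega
  obtain ⟨a, b, hab⟩ := exists_anisotropic h2
  obtain ⟨M1, hs1, hg1, ho1⟩ := exists_rep hn (Matrix.J (Fin m) F) (J_det_ne m) ((card_plus m).trans hnm.symm)
    (ε := -1) (by rw [Matrix.J_transpose, neg_one_smul])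
  obtain ⟨M2, hs2, hg2, ho2⟩ := exists_rep hn (Mplus m F) (Mplus_det h2 m).1 ((card_plus m).trans hnm.symm) (ε := 1)
    (by rw [Mplus_transpose, one_smul])
  obtain ⟨M3, hs3, hg3, ho3⟩ := exists_rep hn (Mminus (m - 1) F a b) (Mminus_det h2 _ hab).1
    ((card_minus (by omega)).trans hnm.symm) (ε := 1) (by rw [Mminus_transpose, one_smul])
  haveI : Nonempty (Fin m ⊕ Fin m) := ⟨Sum.inl ⟨0, by omega⟩⟩
  refine ⟨gInv M1, gInv M2, gInv M3, a, b, hab, hg1, ho1, hg2, ho2, hg3, ho3, ?_, ?_, ?_, fun γ hγ hγ2 => ?_,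
    pgsp_iso hn hs1, ?_, ?_⟩
  · rw [isConj_iff hn]
    exact fun h => not_similar_J_sym h2 (Mplus_transpose m) (Mplus_det h2 m).1 inferInstance
      ((hs1.symm.trans h).trans hs2)
  · rw [isConj_iff hn]
    exact fun h => not_similar_J_sym h2 (Mminus_transpose _ a b) (Mminus_det h2 _ hab).1 ⟨Sum.inr 0⟩
      ((hs1.symm.trans h).trans hs3)
  · rw [isConj_iff hn]
    exact fun h => not_similar_plus_minus h2 (by omega) hab ((hs2.symm.trans h).trans hs3)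
  · obtain ⟨M, ε, rfl, hM, hε⟩ := exists_form hn hγ hγ2
    rw [isConj_iff hn, isConj_iff hn, isConj_iff hn]
    rcases trichotomy h2 M.det_ne_zero hM hε (m := m) (by rw [Fintype.card_fin, hnm]) (by omega) hab with
      ⟨-, h⟩ | ⟨-, h⟩ | ⟨-, h⟩
    · exact Or.inl (hs1.trans h.symm)
    · exact Or.inr (Or.inl (hs2.trans h.symm))
    · exact Or.inr (Or.inr (hs3.trans h.symm))
  · exact iso_of_eq hn (pgo_plus h2 m) hs2
  · exact iso_of_eq hn (pgo_minus h2 _ a b) hs3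

/-- The centraliser of the inverse transpose. -/
theorem centralizer_it (h2 : (2 : F) ≠ 0) {m : ℕ} (hm : 2 ≤ m) (hnm : n = 2 * m) :
    (IsSquare ((-1 : F) ^ m) → Nonempty (↥(Cfsg.inndiagPSL n F ⊓ Subgroup.centralizer {itAut}) ≃*
      Cfsg.PGO F (Cfsg.quadFormPlus m F))) ∧
    (¬ IsSquare ((-1 : F) ^ m) → ∃ a b : F, (∀ z₁ z₂ : F, z₁ ^ 2 + a * z₁ * z₂ + b * z₂ ^ 2 = 0 → z₁ = 0 ∧ z₂ = 0) ∧
      Nonempty (↥(Cfsg.inndiagPSL n F ⊓ Subgroup.centralizer {itAut}) ≃*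
        Cfsg.PGO F (Cfsg.quadFormMinus (m - 1) F a b))) := by
  have hn : 3 ≤ n := by omega
  have hit : (itAut : MulAut (Matrix.ProjectiveSpecialLinearGroup (Fin n) F)) = gInv 1 := by
    rw [gInv, inv_one, semiAut_one, one_mul]
  rw [hit]
  have hu : ((1 : GL (Fin n) F) : Matrix (Fin n) (Fin n) F).det ≠ 0 := by simp
  have hc : Fintype.card (Fin n) = 2 * m := by rw [Fintype.card_fin, hnm]
  refine ⟨fun h => ?_, fun h => ?_⟩
  · exact iso_of_eq hn (pgo_plus h2 m) (M := 1) (similar_plus_of h2 (by simp) hu hc (by simpa using h))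
  · obtain ⟨a, b, hab⟩ := exists_anisotropic h2
    refine ⟨a, b, hab, ?_⟩
    exact iso_of_eq hn (pgo_minus h2 _ a b) (M := 1) (similar_minus_of h2 (by simp) hu hc (by omega) (by simpa using h) hab)

end CfsgLib.KnownC.GraphForms.Lin
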