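import Cfsg.Agent.Lib.KnownC.GraphForms.Lin
import Cfsg.Agent.Lib.KnownC.GraphForms.Counts

/-!
# Splitting of the classes of graph involutions of `PSL_n`
-/

set_option autoImplicit false
set_option linter.unusedSectionVars false

namespace CfsgLib.KnownC.GraphForms.Lin

open Matrix CfsgLib.KnownC.AutPSL

variable {F : Type*} [Field F] [Fintype F] {n : ℕ}

local notation "Mn" => Matrix (Fin n) (Fin n) F

theorem count_full (M : GL (Fin n) F) (ho : Odd n ∨ Odd (Nat.card Fˣ)) :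
    (detT (M : Mn)).index = Nat.gcd n (Nat.card Fˣ) := by
  refine index_full le_sup_left (fun d hd => ?_) ho
  obtain ⟨g, c, u, hg, hd⟩ := mem_detT hd
  have h := sim_det_sq M.det_ne_zero hg
  rw [Fintype.card_fin] at h
  refine ⟨c * u ^ 2, Units.ext ?_⟩
  simp only [Units.val_pow_eq_pow_val, Units.val_mul, hd, mul_pow, h, ← pow_mul]
  ring

theorem count_alt (M : GL (Fin n) F) (hM : ∀ v, v ⬝ᵥ ((M : Mn) *ᵥ v) = 0) {m : ℕ} (hnm : n = 2 * m) :
    (detT (M : Mn)).index = Nat.gcd m (Nat.card Fˣ) := by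
  obtain ⟨h1, h2⟩ := sim_det_alt hM M.det_ne_zero (m := m) (by rw [Fintype.card_fin, hnm])
  refine index_alt fun d => ⟨fun hd => ?_, ?_⟩
  · obtain ⟨g, c, u, hg, hd⟩ := mem_detT hd
    refine ⟨u ^ 2 * c, Units.ext ?_⟩
    rw [hd, h1 _ _ c.ne_zero hg]
    simp only [Units.val_pow_eq_pow_val, Units.val_mul, mul_pow, ← pow_mul, hnm]
  · rintro ⟨v, rfl⟩
    obtain ⟨g, hg, hd⟩ := h2 (v : F)
    exact mem_detT_of M.det_ne_zero v.ne_zero hg (by rw [Units.val_pow_eq_pow_val, hd])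

theorem count_sym (h2 : (2 : F) ≠ 0) (M : GL (Fin n) F) (hM : (M : Mn)ᵀ = (M : Mn)) {m : ℕ} (hm : 1 ≤ m)
    (hnm : n = 2 * m) : (detT (M : Mn)).index = Nat.gcd n (Nat.card Fˣ) / 2 := by
  obtain ⟨h1, hex, g₀, hg₀, hd₀⟩ := sim_det_sym h2 hM M.det_ne_zero (m := m) (by rw [Fintype.card_fin, hnm]) hm
  refine Eq.trans ?_ (congrArg (fun k => Nat.gcd k _ / 2) hnm.symm)
  refine index_sym (z := -1) (neg_one_sq) (fun h => h2 ?_) ?_ (fun d hd => ?_) (fun v => ?_)
  · have h' := congrArg Units.val h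
    rw [Units.val_neg, Units.val_one] at h'
    linear_combination -h'
  · exact mem_detT_of M.det_ne_zero one_ne_zero (g := g₀) (by rw [hg₀, one_smul]) (by rw [hd₀]; rfl)
  · obtain ⟨g, c, u, hg, hd⟩ := mem_detT hd
    refine ⟨u ^ 2 * c, ?_⟩
    rcases h1 _ _ hg with h | h
    · left; refine Units.ext ?_
      rw [hd, h]
      simp only [Units.val_pow_eq_pow_val, Units.val_mul, mul_pow, ← pow_mul, hnm]
    · right; refine Units.ext ?_
      rw [hd, h]
      simp only [Units.val_pow_eq_pow_val, Units.val_mul, Units.val_neg, Units.val_one, mul_pow, ← pow_mul, hnm]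
      ring
  · obtain ⟨g, hg⟩ := hex (v : F) v.ne_zero
    rcases h1 _ _ hg with h | h
    · left; exact mem_detT_of M.det_ne_zero v.ne_zero hg (by rw [Units.val_pow_eq_pow_val, h])
    · right; exact mem_detT_of M.det_ne_zero v.ne_zero hg (by simp [h])

end CfsgLib.KnownC.GraphForms.Lin
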