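import Cfsg.Agent.Lib.KnownC.GraphForms.UniCentral
import Cfsg.Agent.Lib.KnownC.GraphForms.Classes

/-!
# The classes of involutory graph automorphisms of `PSU_n`
-/

set_option autoImplicit false
set_option linter.unusedSectionVars false

namespace CfsgLib.KnownC.GraphForms.Uni

open Matrix CfsgLib.Classical CfsgLib.KnownC.GUConj CfsgLib.KnownC.AutPSU

variable {F : Type*} [Field F] [Fintype F] {n q : ℕ} [hF : Fact (Fintype.card F = q ^ 2)]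
  {F₀ : Type*} [Field F₀] [Fintype F₀] {σ : F ≃+* F} {ι : F₀ →+* F}

/-- A representative for a given form. -/
theorem exists_rep_form (hn : 3 ≤ n) (hs : ¬ (n = 3 ∧ q = 2)) (D : Data q σ ι) {κ : Type} [Fintype κ] [DecidableEq κ]
    (N : Matrix κ κ F₀) (hN : N.det ≠ 0) (hc : Fintype.card κ = n) {ε : F₀} (hε : ε = 1 ∨ ε = -1) (hsym : Nᵀ = ε • N) :
    ∃ (M : GL (Fin n) F₀) (γ : MulAut (Cfsg.PSU n F q)), Nonempty (Rep σ ι γ M) ∧
      Similar (M : Matrix (Fin n) (Fin n) F₀) N ∧ Cfsg.IsGraphAutClassPSU γ ∧ orderOf γ = 2 := by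
  obtain ⟨M, hsM, ht⟩ := exists_reindex (ι := Fin n) N hN (by rw [Fintype.card_fin, hc])
  obtain ⟨γ, ⟨R⟩⟩ := rep_of_form (F := F) (q := q) (by omega) D M hε (ht ε hsym)
  exact ⟨M, γ, ⟨R⟩, hsM, rep_class hn hs D R⟩

theorem classes_odd_char (h2 : (2 : F₀) ≠ 0) {m : ℕ} (hm : 2 ≤ m) (hnm : n = 2 * m) (D : Data q σ ι) :
    ∃ (γ₁ γ₂ γ₃ : MulAut (Cfsg.PSU n F q)) (a b : F₀),
      (∀ z₁ z₂ : F₀, z₁ ^ 2 + a * z₁ * z₂ + b * z₂ ^ 2 = 0 → z₁ = 0 ∧ z₂ = 0) ∧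
      Cfsg.IsGraphAutClassPSU γ₁ ∧ orderOf γ₁ = 2 ∧ Cfsg.IsGraphAutClassPSU γ₂ ∧ orderOf γ₂ = 2 ∧
      Cfsg.IsGraphAutClassPSU γ₃ ∧ orderOf γ₃ = 2 ∧ ¬ Cfsg.IsConjUnder (Cfsg.inndiagPSU n F q) γ₁ γ₂ ∧
      ¬ Cfsg.IsConjUnder (Cfsg.inndiagPSU n F q) γ₁ γ₃ ∧ ¬ Cfsg.IsConjUnder (Cfsg.inndiagPSU n F q) γ₂ γ₃ ∧
      (∀ γ : MulAut (Cfsg.PSU n F q), Cfsg.IsGraphAutClassPSU γ → orderOf γ = 2 →
        Cfsg.IsConjUnder (Cfsg.inndiagPSU n F q) γ₁ γ ∨ Cfsg.IsConjUnder (Cfsg.inndiagPSU n F q) γ₂ γ ∨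
          Cfsg.IsConjUnder (Cfsg.inndiagPSU n F q) γ₃ γ) ∧
      Nonempty (↥(Cfsg.inndiagPSU n F q ⊓ Subgroup.centralizer {γ₁}) ≃* Cfsg.PGSp m F₀) ∧
      Nonempty (↥(Cfsg.inndiagPSU n F q ⊓ Subgroup.centralizer {γ₂}) ≃* Cfsg.PGO F₀ (Cfsg.quadFormPlus m F₀)) ∧
      Nonempty (↥(Cfsg.inndiagPSU n F q ⊓ Subgroup.centralizer {γ₃}) ≃*
        Cfsg.PGO F₀ (Cfsg.quadFormMinus (m - 1) F₀ a b)) := by
  have hn : 3 ≤ n := by omega
  have hs : ¬ (n = 3 ∧ q = 2) := fun h => by omega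
  obtain ⟨a, b, hab⟩ := exists_anisotropic h2
  obtain ⟨M1, γ₁, ⟨R1⟩, hs1, hg1, ho1⟩ := exists_rep_form hn hs D (Matrix.J (Fin m) F₀) (J_det_ne m)
    ((card_plus m).trans hnm.symm) (ε := -1) (Or.inr rfl) (by rw [Matrix.J_transpose, neg_one_smul])
  obtain ⟨M2, γ₂, ⟨R2⟩, hs2, hg2, ho2⟩ := exists_rep_form hn hs D (Mplus m F₀) (Mplus_det h2 m).1
    ((card_plus m).trans hnm.symm) (ε := 1) (Or.inl rfl) (by rw [Mplus_transpose, one_smul])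
  obtain ⟨M3, γ₃, ⟨R3⟩, hs3, hg3, ho3⟩ := exists_rep_form hn hs D (Mminus (m - 1) F₀ a b) (Mminus_det h2 _ hab).1
    ((card_minus (by omega)).trans hnm.symm) (ε := 1) (Or.inl rfl) (by rw [Mminus_transpose, one_smul])
  haveI : Nonempty (Fin m ⊕ Fin m) := ⟨Sum.inl ⟨0, by omega⟩⟩
  refine ⟨γ₁, γ₂, γ₃, a, b, hab, hg1, ho1, hg2, ho2, hg3, ho3, ?_, ?_, ?_, fun γ hγ hγ2 => ?_,
    centralizer_similar hn hs D R1 hs1 (gsp_eq m), centralizer_similar hn hs D R2 hs2 (pgo_plus h2 m),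
    centralizer_similar hn hs D R3 hs3 (pgo_minus h2 _ a b)⟩
  · rw [isConj_iff hn hs D R1 R2]
    exact fun h => not_similar_J_sym h2 (Mplus_transpose m) (Mplus_det h2 m).1 inferInstance
      ((hs1.symm.trans h).trans hs2)
  · rw [isConj_iff hn hs D R1 R3]
    exact fun h => not_similar_J_sym h2 (Mminus_transpose _ a b) (Mminus_det h2 _ hab).1 ⟨Sum.inr 0⟩
      ((hs1.symm.trans h).trans hs3)
  · rw [isConj_iff hn hs D R2 R3]
    exact fun h => not_similar_plus_minus h2 (by omega) hab ((hs2.symm.trans h).trans hs3)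
  · obtain ⟨M, ⟨R⟩⟩ := exists_rep hn hs D hγ hγ2
    rw [isConj_iff hn hs D R1 R, isConj_iff hn hs D R2 R, isConj_iff hn hs D R3 R]
    rcases trichotomy h2 M.det_ne_zero R.hsym R.hε (m := m) (by rw [Fintype.card_fin, hnm]) (by omega) hab with
      ⟨-, h⟩ | ⟨-, h⟩ | ⟨-, h⟩
    · exact Or.inl (hs1.trans h.symm)
    · exact Or.inr (Or.inl (hs2.trans h.symm))
    · exact Or.inr (Or.inr (hs3.trans h.symm))

/-- The centraliser of the standard conjugation. -/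
theorem centralizer_std_conj (h2 : (2 : F₀) ≠ 0) {m : ℕ} (hm : 2 ≤ m) (hnm : n = 2 * m) (hev : Even m) (D : Data q σ ι) :
    Nonempty (↥(Cfsg.inndiagPSU n F q ⊓ Subgroup.centralizer {semiAut (1 : Cfsg.GU n F q) σ}) ≃*
      Cfsg.PGO F₀ (Cfsg.quadFormPlus m F₀)) := by
  let R : Rep σ ι (semiAut (1 : Cfsg.GU n F q) σ) (1 : GL (Fin n) F₀) :=
    { A := 1, h := 1, a := 1, δ := 1, ε := 1
      eq := rfl
      hA := by simp [AutPSL.scl_one]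
      hM := by
        rw [map_one, AutPSL.scl_one, one_mul, mul_one]
        exact (Units.ext (adj_one _)).symm
      hδ := by simp
      hε := Or.inl rfl
      hsym := by simp }
  refine centralizer_similar (by omega) (fun h => by omega) D R ?_ (pgo_plus h2 m)
  exact similar_plus_of h2 (by simp) (by simp) (by rw [Fintype.card_fin, hnm]) (by rw [hev.neg_one_pow]; simp)

end CfsgLib.KnownC.GraphForms.Uni
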