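import Cfsg.Agent.Lib.KnownC.GraphForms.TwoOdd
import Cfsg.Agent.Lib.KnownC.GraphForms.LinClasses
import Cfsg.Agent.Lib.KnownC.GraphForms.UniClasses

/-!
# Graph involutions in odd dimension
-/

set_option autoImplicit false
set_option linter.unusedSectionVars false

namespace CfsgLib.KnownC.GraphForms

open Matrix

variable {F : Type*} [Field F] [Fintype F] {n m : ℕ}

theorem sym_of_odd {K : Type*} [Field K] (hnm : n = 2 * m + 1) {M : Matrix (Fin n) (Fin n) K} (hu : M.det ≠ 0) {ε : K}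
    (hε : ε = 1 ∨ ε = -1) (hM : Mᵀ = ε • M) : Mᵀ = M := by
  rcases hε with rfl | rfl
  · rwa [one_smul] at hM
  · rw [neg_one_smul] at hM
    by_cases h2 : (2 : K) = 0
    · rw [hM]
      ext i j
      rw [Matrix.neg_apply]
      linear_combination (-(M i j)) * h2
    · obtain ⟨k, hk, -⟩ := similar_J (alt_of_neg h2 hM) hu
      rw [Fintype.card_fin] at hk
      omega

theorem lin_odd (hn : 3 ≤ n) (hnm : n = 2 * m + 1)
    (γ γ' : MulAut (Matrix.ProjectiveSpecialLinearGroup (Fin n) F)) (hγ : Cfsg.IsGraphAutClassPSL γ) (hγ2 : orderOf γ = 2)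
    (hγ' : Cfsg.IsGraphAutClassPSL γ') (hγ'2 : orderOf γ' = 2) :
    Nonempty (↥(Cfsg.inndiagPSL n F ⊓ Subgroup.centralizer {γ}) ≃* Cfsg.PGO F (Cfsg.quadFormOdd m F)) ∧
      Cfsg.IsConjUnder (Cfsg.inndiagPSL n F) γ γ' := by
  obtain ⟨N, -, -, ⟨e⟩, hall⟩ := odd_form (K := F) m
  obtain ⟨M, ε, rfl, hM, hε⟩ := Lin.exists_form hn hγ hγ2
  obtain ⟨M', ε', rfl, hM', hε'⟩ := Lin.exists_form hn hγ' hγ'2
  have hs := hall (M : Matrix (Fin n) (Fin n) F) (sym_of_odd hnm M.det_ne_zero hε hM) M.det_ne_zero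
    (by rw [Fintype.card_fin, hnm])
  have hs' := hall (M' : Matrix (Fin n) (Fin n) F) (sym_of_odd hnm M'.det_ne_zero hε' hM') M'.det_ne_zero
    (by rw [Fintype.card_fin, hnm])
  exact ⟨⟨(Lin.centralizer_similar hn M hs).some.trans e.symm⟩, (Lin.isConj_iff hn M M').2 (hs.trans hs'.symm)⟩

theorem uni_odd {q : ℕ} [hF : Fact (Fintype.card F = q ^ 2)] (hn : 3 ≤ n) (hs : ¬ (n = 3 ∧ q = 2)) (hnm : n = 2 * m + 1)
    {F₀ : Type*} [Field F₀] [Fintype F₀] (hF₀ : Fintype.card F₀ = q) (γ γ' : MulAut (Cfsg.PSU n F q))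
    (hγ : Cfsg.IsGraphAutClassPSU γ) (hγ2 : orderOf γ = 2) (hγ' : Cfsg.IsGraphAutClassPSU γ') (hγ'2 : orderOf γ' = 2) :
    Nonempty (↥(Cfsg.inndiagPSU n F q ⊓ Subgroup.centralizer {γ}) ≃* Cfsg.PGO F₀ (Cfsg.quadFormOdd m F₀)) ∧
      Cfsg.IsConjUnder (Cfsg.inndiagPSU n F q) γ γ' := by
  obtain ⟨σ, ι, D⟩ := Uni.exists_data (F := F) (q := q) hF₀
  obtain ⟨N, -, -, ⟨e⟩, hall⟩ := odd_form (K := F₀) m
  obtain ⟨M, ⟨R⟩⟩ := Uni.exists_rep hn hs D hγ hγ2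
  obtain ⟨M', ⟨R'⟩⟩ := Uni.exists_rep hn hs D hγ' hγ'2
  have h := hall (M : Matrix (Fin n) (Fin n) F₀) (sym_of_odd hnm M.det_ne_zero R.hε R.hsym) M.det_ne_zero
    (by rw [Fintype.card_fin, hnm])
  have h' := hall (M' : Matrix (Fin n) (Fin n) F₀) (sym_of_odd hnm M'.det_ne_zero R'.hε R'.hsym) M'.det_ne_zero
    (by rw [Fintype.card_fin, hnm])
  exact ⟨⟨(Uni.centralizer_similar hn hs D R h rfl).some.trans e.symm⟩,
    (Uni.isConj_iff hn hs D R R').2 (h.trans h'.symm)⟩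

end CfsgLib.KnownC.GraphForms
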