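import Cfsg.Agent.Lib.KnownC.GraphForms.Classes
import Cfsg.Agent.Lib.Classical.SympMatrix
import Cfsg.Agent.Lib.Classical.OrthCount
import Cfsg.Agent.Lib.Orth.Bridge
import Cfsg.Agent.Lib.KnownC.AutPSU.Count

/-!
# Symplectic and orthogonal similitude groups are not isomorphic
-/

set_option autoImplicit false
set_option linter.unusedSectionVars false

namespace CfsgLib.KnownC.GraphForms

open Matrix CfsgLib.Orth

variable {K : Type*} [Field K] [Fintype K]

theorem pgsp_dvd (m : ℕ) : Fintype.card K ^ (m ^ 2) ∣ Nat.card (Cfsg.PGSp m K) := by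
  classical
  set H := Cfsg.GSp m K
  have hle : Cfsg.spGL m K ≤ H := fun g hg => ⟨1, fun u v => by rw [Units.val_one, one_mul]; exact hg u v⟩
  have h1 : Fintype.card K ^ (m ^ 2) ∣ Nat.card H := by
    refine dvd_trans ?_ (Subgroup.card_dvd_of_le hle)
    rw [← Nat.card_congr (Classical.spGLEquiv m).toEquiv, Classical.card_symplecticGroup]
    exact dvd_mul_right _ _
  rw [Subgroup.card_eq_card_quotient_mul_card_subgroup
    ((Cfsg.Geo.scalars (Fin m ⊕ Fin m) K).subgroupOf H)] at h1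
  refine (Nat.Coprime.dvd_of_dvd_mul_right ?_ h1)
  have h2 : Nat.card ((Cfsg.Geo.scalars (Fin m ⊕ Fin m) K).subgroupOf H) ∣ Fintype.card K - 1 := by
    rw [← Fintype.card_units, ← Nat.card_eq_fintype_card]
    exact (Subgroup.card_comap_dvd_of_injective _ H.subtype Subtype.val_injective).trans
      (Subgroup.card_range_dvd _)
  refine Nat.Coprime.pow_left _ (Nat.Coprime.coprime_dvd_right h2 ?_)
  exact Nat.Coprime.symm ((Nat.coprime_self_sub_left Fintype.card_pos).2 (Nat.coprime_one_left _))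

variable {ι : Type} [Fintype ι] [DecidableEq ι]

/-- The similitude group is an extension of the isometry group by at most `q - 1`. -/
theorem go_dvd (Qf : (ι → K) → K) (v₀ : ι → K) (hv₀ : Qf v₀ ≠ 0) :
    ∃ d, d ∣ Fintype.card K - 1 ∧ Nat.card (Cfsg.PGO K Qf) ∣ d * Nat.card ↥(Cfsg.isometryGroup K Qf) := by
  classical
  set G := Cfsg.Geo.quadSimilarityGroup (F := K) Qf
  have huniq : ∀ (g : G) (c d : Kˣ), (∀ v, Qf ((g.1 : Matrix ι ι K) *ᵥ v) = (c : K) * Qf v) →
      (∀ v, Qf ((g.1 : Matrix ι ι K) *ᵥ v) = (d : K) * Qf v) → c = d := fun g c d hc hd =>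
    Units.ext (mul_right_cancel₀ hv₀ ((hc v₀).symm.trans (hd v₀)))
  choose χ hχ using fun g : G => g.2
  let X : G →* Kˣ := MonoidHom.mk' χ fun g h => huniq (g * h) _ _ (hχ _) fun v => by
    show Qf (((g.1 * h.1 : GL ι K) : Matrix ι ι K) *ᵥ v) = _
    rw [Units.val_mul, ← Matrix.mulVec_mulVec, hχ, hχ, Units.val_mul, mul_assoc]
  have hker : X.ker = (Cfsg.isometryGroup K Qf).subgroupOf G := by
    ext g
    rw [MonoidHom.mem_ker, Subgroup.mem_subgroupOf]
    constructor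
    · intro h u _
      show Qf ((g.1 : Matrix ι ι K) *ᵥ u) = Qf u
      rw [hχ g u, show χ g = 1 from h, Units.val_one, one_mul]
    · intro h
      exact huniq g _ 1 (hχ g) fun v => by rw [Units.val_one, one_mul]; exact h v v
  refine ⟨Nat.card X.range, ?_, ?_⟩
  · rw [← Fintype.card_units, ← Nat.card_eq_fintype_card]
    exact Subgroup.card_subgroup_dvd_card _
  · refine (Subgroup.card_quotient_dvd_card _).trans ?_
    rw [Subgroup.card_eq_card_quotient_mul_card_subgroup X.ker,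
      Nat.card_congr (QuotientGroup.quotientKerEquivRange X).toEquiv, hker]
    exact mul_dvd_mul_left _ (Subgroup.card_comap_dvd_of_injective _ G.subtype Subtype.val_injective)

theorem no_iso_aux {Qf : (ι → K) → K} {v₀ : ι → K} (hv₀ : Qf v₀ ≠ 0) {m X : ℕ} (hm : 1 ≤ m)
    (hodd : Odd (Fintype.card K)) (hX : Nat.Coprime (Fintype.card K) X)
    (hcard : Nat.card ↥(Cfsg.isometryGroup K Qf) = 2 * Fintype.card K ^ (m * (m - 1)) * X) :
    IsEmpty (Cfsg.PGSp m K ≃* Cfsg.PGO K Qf) := ⟨fun e => by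
  set q := Fintype.card K
  have hq : 2 ≤ q := Fintype.one_lt_card
  obtain ⟨d, hd, hdvd⟩ := go_dvd Qf v₀ hv₀
  have h1 : q ^ (m ^ 2) ∣ d * (2 * q ^ (m * (m - 1)) * X) := by
    rw [← hcard]
    exact (pgsp_dvd (K := K) m).trans (Nat.card_congr e.toEquiv ▸ hdvd)
  have hdc : Nat.Coprime q d := Nat.Coprime.coprime_dvd_right hd
    (Nat.Coprime.symm ((Nat.coprime_self_sub_left (by omega)).2 (Nat.coprime_one_left _)))
  have h2 := Nat.Coprime.dvd_of_dvd_mul_left (hdc.pow_left _) h1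
  have h3 := Nat.Coprime.dvd_of_dvd_mul_right (hX.pow_left _) h2
  have h4 := Nat.Coprime.dvd_of_dvd_mul_left ((Nat.coprime_two_right.2 hodd).pow_left _) h3
  have h5 := (Nat.pow_dvd_pow_iff_le_right (by omega)).1 h4
  obtain ⟨k, rfl⟩ : ∃ k, m = k + 1 := ⟨m - 1, by omega⟩
  rw [Nat.add_sub_cancel] at h5
  nlinarith⟩

theorem no_iso_plus {m : ℕ} (hm : 1 ≤ m) (hodd : Odd (Fintype.card K)) :
    IsEmpty (Cfsg.PGSp m K ≃* Cfsg.PGO K (Cfsg.quadFormPlus m K)) := by
  obtain ⟨k, rfl⟩ : ∃ k, m = k + 1 := ⟨m - 1, by omega⟩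
  have hq : 2 ≤ Fintype.card K := Fintype.one_lt_card
  refine no_iso_aux (v₀ := Pi.single (Sum.inl 0) 1 + Pi.single (Sum.inr 0) 1) ?_ hm hodd
    (X := (Fintype.card K ^ (k + 1) - 1) * ∏ i ∈ Finset.range k, (Fintype.card K ^ (2 * (i + 1)) - 1)) ?_ ?_
  · rw [Cfsg.quadFormPlus, Finset.sum_eq_single 0 (fun i _ hi => by simp [hi]) (by simp)]
    simp
  · exact Nat.Coprime.mul_right (AutPSU.coprime_pow_sub hq (by omega))
      (Nat.Coprime.prod_right fun i _ => AutPSU.coprime_pow_sub hq (by omega))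
  · rw [Nat.card_congr (toOrth (Orth.plusForm K (k + 1)) (fun v => Orth.plusForm_apply _ v)).toEquiv,
      Classical.card_orth_plus rfl k, Nat.add_sub_cancel]
    ring

theorem no_iso_minus {m : ℕ} (hm : 1 ≤ m) (hodd : Odd (Fintype.card K)) {a b : K}
    (hab : ∀ z₁ z₂ : K, z₁ ^ 2 + a * z₁ * z₂ + b * z₂ ^ 2 = 0 → z₁ = 0 ∧ z₂ = 0) :
    IsEmpty (Cfsg.PGSp m K ≃* Cfsg.PGO K (Cfsg.quadFormMinus (m - 1) K a b)) := by
  obtain ⟨k, rfl⟩ : ∃ k, m = k + 1 := ⟨m - 1, by omega⟩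
  have hq : 2 ≤ Fintype.card K := Fintype.one_lt_card
  rw [Nat.add_sub_cancel]
  refine no_iso_aux (v₀ := Pi.single (Sum.inr 0) 1) ?_ hm hodd
    (X := (Fintype.card K ^ (k + 1) + 1) * ∏ i ∈ Finset.range k, (Fintype.card K ^ (2 * (i + 1)) - 1)) ?_ ?_
  · simp [Cfsg.quadFormMinus]
  · exact Nat.Coprime.mul_right (AutPSU.coprime_pow_add (by omega))
      (Nat.Coprime.prod_right fun i _ => AutPSU.coprime_pow_sub hq (by omega))
  · rw [Nat.card_congr (toOrth (Orth.minusForm K k a b) (fun v => Orth.minusForm_apply _ a b v)).toEquiv,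
      Classical.card_orth_minus rfl a b hab k, Nat.add_sub_cancel]
    ring

/-- A form whose projective similitude group is `PGSp` is alternating. -/
theorem sym_not_pgsp {m : ℕ} (hm : 1 ≤ m) (hodd : Odd (Fintype.card K)) (h2 : (2 : K) ≠ 0) {M : Matrix ι ι K}
    (hu : M.det ≠ 0) (hM : Mᵀ = M) (hc : Fintype.card ι = 2 * m) :
    IsEmpty (Cfsg.projQuot (Sim M) ≃* Cfsg.PGSp m K) := ⟨fun e => by
  obtain ⟨a, b, hab⟩ := exists_anisotropic h2
  by_cases hd : IsSquare (M.det * (-1) ^ m)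
  · have hs := (similar_plus_of h2 hM hu hc hd).projSim
    rw [← pgo_plus h2] at hs
    exact (no_iso_plus hm hodd).false (e.symm.trans hs.some)
  · have hs := (similar_minus_of h2 hM hu hc hm hd hab).projSim
    rw [← pgo_minus h2] at hs
    exact (no_iso_minus hm hodd hab).false (e.symm.trans hs.some)⟩

end CfsgLib.KnownC.GraphForms
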