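import Cfsg.Agent.Lib.KnownC.GraphForms.Classify
import Cfsg.Agent.Lib.KnownC.GraphForms.Facts
import Mathlib.FieldTheory.Perfect
import Mathlib.Algebra.CharP.Two

/-!
# Symmetric forms in characteristic two, odd dimension
-/

set_option autoImplicit false
set_option linter.unusedSectionVars false

namespace CfsgLib.KnownC.GraphForms

open Matrix

variable {K : Type*} [Field K] [Finite K] [CharP K 2] {ι κ : Type} [Fintype ι] [DecidableEq ι] [Fintype κ]
  [DecidableEq κ]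

theorem exists_sqrt_two (x : K) : ∃ y, y * y = x := FiniteField.isSquare_of_char_two (ringChar.eq K 2) x |>.imp fun _ h => h.symm

theorem sq_inj {x y : K} (h : x * x = y * y) : x = y := by
  rcases mul_self_eq_mul_self_iff.1 h with h | h
  · exact h
  · rw [h, CharTwo.neg_eq]

theorem sum_sq {α : Type*} (s : Finset α) (f : α → K) : (∑ i ∈ s, f i) * (∑ i ∈ s, f i) = ∑ i ∈ s, f i * f i :=
  (CharTwo.sum_mul_self s f)

/-- The vector attached to the diagonal of a symmetric form. -/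
theorem exists_char_vec {M : Matrix ι ι K} (hM : Mᵀ = M) (hu : M.det ≠ 0) :
    ∃ w, ∀ v, v ⬝ᵥ (M *ᵥ v) = (w ⬝ᵥ (M *ᵥ v)) * (w ⬝ᵥ (M *ᵥ v)) := by
  choose s hs using fun i => exists_sqrt_two (M i i)
  refine ⟨M⁻¹ *ᵥ s, fun v => ?_⟩
  have hMw : ∀ x, (M⁻¹ *ᵥ s) ⬝ᵥ (M *ᵥ x) = s ⬝ᵥ x := fun x => by
    rw [Matrix.dotProduct_mulVec, ← Matrix.mulVec_transpose, hM, Matrix.mulVec_mulVec,
      Matrix.mul_nonsing_inv _ (isUnit_iff_ne_zero.2 hu), Matrix.one_mulVec]
  rw [hMw, dotProduct, dotProduct, sum_sq]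
  simp only [Matrix.mulVec, dotProduct, Finset.mul_sum]
  rw [← Fintype.sum_prod_type']
  let σ : ι × ι → ι × ι := Prod.swap
  have hoff : ∑ p ∈ Finset.univ.filter (fun p : ι × ι => p.1 ≠ p.2), v p.1 * (M p.1 p.2 * v p.2) = 0 := by
    refine Finset.sum_involution (fun p _ => p.swap) (fun p _ => ?_) (fun p hp _ => ?_) (fun p hp => ?_) (fun p _ => rfl)
    · have hsym : M p.2 p.1 = M p.1 p.2 := congrFun (congrFun hM p.1) p.2
      simp only [Prod.fst_swap, Prod.snd_swap, hsym]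
      rw [show v p.2 * (M p.1 p.2 * v p.1) = v p.1 * (M p.1 p.2 * v p.2) by ring, CharTwo.add_self_eq_zero]
    · simp only [Finset.mem_filter, Finset.mem_univ, true_and] at hp
      exact fun h => hp (congrArg Prod.fst h).symm
    · simp only [Finset.mem_filter, Finset.mem_univ, true_and] at hp ⊢
      exact Ne.symm hp
  rw [← Finset.sum_filter_add_sum_filter_not Finset.univ (fun p : ι × ι => p.1 = p.2), hoff, add_zero]
  refine Finset.sum_bij' (fun p _ => p.1) (fun i _ => (i, i)) (by simp) (by simp) (fun p hp => ?_) (by simp)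
    (fun p hp => ?_)
  · simp only [Finset.mem_filter, Finset.mem_univ, true_and] at hp
    exact Prod.ext rfl hp
  · simp only [Finset.mem_filter, Finset.mem_univ, true_and] at hp
    rw [← hp, show s p.1 * v p.1 * (s p.1 * v p.1) = s p.1 * s p.1 * (v p.1 * v p.1) by ring, hs]
    ring

theorem congr_of_columns {M : Matrix ι ι K} {N : Matrix κ κ K} (P : Matrix ι κ K) (h : Pᵀ * M * P = N)
    (hc : Fintype.card ι = Fintype.card κ) (hN : N.det ≠ 0) : Congr M N := by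
  let e : ι ≃ κ := Fintype.equivOfCardEq hc
  set P0 := P.submatrix id e
  have hd : IsUnit P0.det := by
    refine isUnit_iff_ne_zero.2 fun h0 => hN ?_
    rw [← Matrix.det_submatrix_equiv_self e, ← h, show (Pᵀ * M * P).submatrix e e = P0ᵀ * M * P0 from rfl,
      Matrix.det_mul, h0, mul_zero]
  have hP : P = P0.submatrix id e.symm := by simp [P0, Matrix.submatrix_submatrix]
  refine ⟨P, P0⁻¹.submatrix e.symm id, ?_, ?_, h⟩
  · conv_lhs => rw [hP]
    rw [Matrix.submatrix_mul_equiv, Matrix.mul_nonsing_inv _ hd, Matrix.submatrix_id_id]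
  · conv_lhs => rw [hP]
    rw [← Matrix.submatrix_mul _ _ _ id _ Function.bijective_id, Matrix.nonsing_inv_mul _ hd,
      Matrix.submatrix_one_equiv]

/-- The symmetric form `x₀ y₀ + Σ (xᵢ yᵢ' + xᵢ' yᵢ)`. -/
def Modd2 (m : ℕ) (K : Type*) [Field K] : Matrix (Unit ⊕ (Fin m ⊕ Fin m)) (Unit ⊕ (Fin m ⊕ Fin m)) K :=
  Matrix.fromBlocks 1 0 0 (Mplus m K)

theorem J_eq_Mplus (m : ℕ) : Matrix.J (Fin m) K = Mplus m K := by
  rw [Matrix.J, Mplus]
  congr 1
  ext i j
  exact CharTwo.neg_eq _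

theorem Mplus_det_two (m : ℕ) : (Mplus m K).det ≠ 0 := by
  rw [← J_eq_Mplus]; exact (Matrix.isUnit_det_J (Fin m) K).ne_zero

theorem Modd2_det (m : ℕ) : (Modd2 m K).det ≠ 0 := by
  rw [Modd2, Matrix.det_fromBlocks_zero₁₂, Matrix.det_one, one_mul]
  exact Mplus_det_two m

theorem Modd2_transpose (m : ℕ) : (Modd2 m K)ᵀ = Modd2 m K := by
  rw [Modd2, Matrix.fromBlocks_transpose, Mplus_transpose, Matrix.transpose_one, Matrix.transpose_zero,
    Matrix.transpose_zero]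

/-- In odd dimension and characteristic two all non-degenerate symmetric forms are equivalent. -/
theorem congr_odd_two {M : Matrix ι ι K} (hM : Mᵀ = M) (hu : M.det ≠ 0) {m : ℕ} (hm : Fintype.card ι = 2 * m + 1) :
    Congr M (Modd2 m K) := by
  obtain ⟨w, hw⟩ := exists_char_vec hM hu
  set B : LinearMap.BilinForm K (ι → K) := Matrix.toLinearMap₂' K M
  have happ : ∀ u v, B u v = u ⬝ᵥ (M *ᵥ v) := fun u v => Matrix.toLinearMap₂'_apply' M u v
  have hsym : ∀ u v, B v u = B u v := fun u v => by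
    rw [happ, happ, Matrix.dotProduct_mulVec, ← Matrix.mulVec_transpose, hM, dotProduct_comm]
  have hB : B.Nondegenerate := Matrix.nondegenerate_toLinearMap₂'_iff.mpr (Matrix.nondegenerate_of_det_ne_zero hu)
  have hw' : ∀ v, B v v = B w v * B w v := fun v => by rw [happ, happ]; exact hw v
  have hL : B w w = 1 := by
    set M' := M + Matrix.vecMulVec (M *ᵥ w) (M *ᵥ w)
    have hA : ∀ v, v ⬝ᵥ (M' *ᵥ v) = 0 := fun v => by
      rw [Matrix.add_mulVec, dotProduct_add, Matrix.vecMulVec_mulVec]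
      have e : (M *ᵥ w) ⬝ᵥ v = B w v := by rw [dotProduct_comm, ← happ, hsym]
      simp only [op_smul_eq_smul, dotProduct_smul, smul_eq_mul]
      rw [e, dotProduct_comm v (M *ᵥ w), e, ← happ, hw', CharTwo.add_self_eq_zero]
    by_cases hd : M'.det = 0
    · obtain ⟨v, hv0, hv⟩ := Matrix.exists_mulVec_eq_zero_iff.2 hd
      rw [Matrix.add_mulVec, Matrix.vecMulVec_mulVec, add_eq_zero_iff_eq_neg, op_smul_eq_smul, ← neg_smul, CharTwo.neg_eq,
        ← Matrix.mulVec_smul] at hv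
      have hv' : v = ((M *ᵥ w) ⬝ᵥ v) • w :=
        Matrix.mulVec_injective_iff_isUnit.2 ((Matrix.isUnit_iff_isUnit_det _).2 (isUnit_iff_ne_zero.2 hu)) hv
      set a := (M *ᵥ w) ⬝ᵥ v
      have ha : a ≠ 0 := fun h => hv0 (by rw [hv', h, zero_smul])
      have h1 : a = a * B w w := by
        conv_lhs => rw [show a = (M *ᵥ w) ⬝ᵥ v from rfl, hv', dotProduct_smul, dotProduct_comm, ← happ, smul_eq_mul]
      exact (mul_right_eq_self₀.1 h1.symm).resolve_right ha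
    · obtain ⟨m', hm', -⟩ := similar_J hA hd
      omega
  set W : Submodule K (ι → K) := LinearMap.ker (B w)
  have hW : Module.finrank K W = 2 * m := by
    have h := LinearMap.finrank_range_add_finrank_ker (B w)
    rw [LinearMap.range_eq_top.2 (fun x => ⟨x • w, by rw [map_smul, hL, smul_eq_mul, mul_one]⟩), finrank_top,
      Module.finrank_self, Module.finrank_fintype_fun_eq_card, hm] at h
    change 1 + Module.finrank K W = _ at h
    omega
  have hmemW : ∀ {x}, x ∈ W ↔ B w x = 0 := LinearMap.mem_ker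
  set BW : LinearMap.BilinForm K W := B.restrict W
  have hA : BW.IsAlt := fun x => by
    show B x.1 x.1 = 0
    rw [hw', hmemW.1 x.2, mul_zero]
  have hN : BW.Nondegenerate := by
    refine (LinearMap.IsRefl.nondegenerate_iff_separatingLeft hA.isRefl).2 fun x hx => ?_
    refine Subtype.ext (hB.1 x.1 fun v => ?_)
    have hv : v - B w v • w ∈ W := by rw [hmemW, map_sub, map_smul, hL, smul_eq_mul, mul_one, sub_self]
    have h := hx ⟨_, hv⟩
    change B x.1 (v - B w v • w) = 0 at h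
    rwa [map_sub, map_smul, hsym w x.1, hmemW.1 x.2, smul_zero, sub_zero] at h
  obtain ⟨m', b, hb⟩ := Classical.exists_sympBasis hA hN
  obtain rfl : m' = m := by
    have := Module.finrank_eq_card_basis b
    rw [hW, Fintype.card_sum, Fintype.card_fin] at this
    omega
  let col : Unit ⊕ (Fin m' ⊕ Fin m') → (ι → K) := Sum.elim (fun _ => w) fun j => (b j : ι → K)
  refine congr_of_columns (Matrix.of fun k j => col j k) ?_
    (by rw [hm, Fintype.card_sum, Fintype.card_sum, Fintype.card_fin, Fintype.card_unit]; omega) (Modd2_det m')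
  ext i j
  rw [congr_apply]
  show col i ⬝ᵥ (M *ᵥ col j) = _
  rw [← happ]
  have h1 : ∀ i j, B (b i).1 (b j).1 = BW (b i) (b j) := fun i j => rfl
  have h2 : ∀ i j, BW (b (Sum.inr i)) (b (Sum.inl j)) = if i = j then 1 else 0 := fun i j => by
    rw [← hA.neg_eq (b (Sum.inl j)) (b (Sum.inr i)), hb.1, CharTwo.neg_eq]
    by_cases h : i = j <;> simp [h, Ne.symm]
  rcases i with i | i | i <;> rcases j with j | j | j <;>
    simp only [col, Sum.elim_inl, Sum.elim_inr, Modd2, Mplus, Matrix.fromBlocks_apply₁₁, Matrix.fromBlocks_apply₁₂,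
      Matrix.fromBlocks_apply₂₁, Matrix.fromBlocks_apply₂₂, Matrix.zero_apply, Matrix.one_apply, hL,
      hmemW.1 (b _).2, hsym w, h1, hb.1, hb.2.1, hb.2.2, h2]
  simp

/-- Sums of two vectors under the plus-type form. -/
theorem plus_add (m : ℕ) (x y : Fin m ⊕ Fin m → K) :
    Cfsg.quadFormPlus m K (x + y) = Cfsg.quadFormPlus m K x + Cfsg.quadFormPlus m K y + x ⬝ᵥ (Mplus m K *ᵥ y) := by
  rw [dot_sum, Cfsg.quadFormPlus, Cfsg.quadFormPlus, Cfsg.quadFormPlus, ← Finset.sum_add_distrib, ← Finset.sum_add_distrib]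
  exact Finset.sum_congr rfl fun i _ => by simp only [Pi.add_apply]; ring

theorem plus_smul (m : ℕ) (a : K) (x : Fin m ⊕ Fin m → K) :
    Cfsg.quadFormPlus m K (a • x) = a * a * Cfsg.quadFormPlus m K x := by
  rw [Cfsg.quadFormPlus, Cfsg.quadFormPlus, Finset.mul_sum]
  exact Finset.sum_congr rfl fun i _ => by simp only [Pi.smul_apply, smul_eq_mul]; ring

theorem odd_eq (m : ℕ) (v : Unit ⊕ (Fin m ⊕ Fin m) → K) :
    Cfsg.quadFormOdd m K v = v (Sum.inl ()) * v (Sum.inl ()) + Cfsg.quadFormPlus m K (v ∘ Sum.inr) := by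
  rw [Cfsg.quadFormOdd, Cfsg.quadFormPlus, pow_two]; rfl

local notation "I₀" => Unit ⊕ (Fin _ ⊕ Fin _)

theorem gv_inl {m : ℕ} (g : Matrix (Unit ⊕ (Fin m ⊕ Fin m)) (Unit ⊕ (Fin m ⊕ Fin m)) K) (v : Unit ⊕ (Fin m ⊕ Fin m) → K) :
    (g *ᵥ v) (Sum.inl ()) = g.toBlocks₁₁ () () * v (Sum.inl ()) + (g.toBlocks₁₂ *ᵥ (v ∘ Sum.inr)) () := by
  simp [Matrix.mulVec, dotProduct, Fintype.sum_sum_type, Matrix.toBlocks₁₁, Matrix.toBlocks₁₂]

theorem gv_inr {m : ℕ} (g : Matrix (Unit ⊕ (Fin m ⊕ Fin m)) (Unit ⊕ (Fin m ⊕ Fin m)) K) (v : Unit ⊕ (Fin m ⊕ Fin m) → K) :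
    (g *ᵥ v) ∘ Sum.inr = v (Sum.inl ()) • (fun k => g (Sum.inr k) (Sum.inl ())) + g.toBlocks₂₂ *ᵥ (v ∘ Sum.inr) := by
  funext k
  simp [Matrix.mulVec, dotProduct, Fintype.sum_sum_type, Matrix.toBlocks₂₂, mul_comm]

/-- The shape of a similitude of the odd form in characteristic two. -/
theorem odd_sim_shape {m : ℕ} {g : GL (Unit ⊕ (Fin m ⊕ Fin m)) K}
    (hg : g ∈ Cfsg.Geo.quadSimilarityGroup (F := K) (Cfsg.quadFormOdd m K)) :
    ∃ c : Kˣ, (g : Matrix (Unit ⊕ (Fin m ⊕ Fin m)) (Unit ⊕ (Fin m ⊕ Fin m)) K).toBlocks₂₁ = 0 ∧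
      (g : Matrix (Unit ⊕ (Fin m ⊕ Fin m)) (Unit ⊕ (Fin m ⊕ Fin m)) K).toBlocks₁₁ () () * (g : Matrix (Unit ⊕ (Fin m ⊕ Fin m)) (Unit ⊕ (Fin m ⊕ Fin m)) K).toBlocks₁₁ () () = c ∧
      ((g : Matrix (Unit ⊕ (Fin m ⊕ Fin m)) (Unit ⊕ (Fin m ⊕ Fin m)) K).toBlocks₂₂)ᵀ * Mplus m K * (g : Matrix (Unit ⊕ (Fin m ⊕ Fin m)) (Unit ⊕ (Fin m ⊕ Fin m)) K).toBlocks₂₂ = (c : K) • Mplus m K ∧
      ∀ x, Cfsg.quadFormPlus m K ((g : Matrix (Unit ⊕ (Fin m ⊕ Fin m)) (Unit ⊕ (Fin m ⊕ Fin m)) K).toBlocks₂₂ *ᵥ x) +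
        ((g : Matrix (Unit ⊕ (Fin m ⊕ Fin m)) (Unit ⊕ (Fin m ⊕ Fin m)) K).toBlocks₁₂ *ᵥ x) () * ((g : Matrix (Unit ⊕ (Fin m ⊕ Fin m)) (Unit ⊕ (Fin m ⊕ Fin m)) K).toBlocks₁₂ *ᵥ x) () =
          c * Cfsg.quadFormPlus m K x := by
  obtain ⟨c, hc⟩ := hg
  set a := (g : Matrix (Unit ⊕ (Fin m ⊕ Fin m)) (Unit ⊕ (Fin m ⊕ Fin m)) K).toBlocks₁₁ () ()
  set r := (g : Matrix (Unit ⊕ (Fin m ⊕ Fin m)) (Unit ⊕ (Fin m ⊕ Fin m)) K).toBlocks₁₂
  set A := (g : Matrix (Unit ⊕ (Fin m ⊕ Fin m)) (Unit ⊕ (Fin m ⊕ Fin m)) K).toBlocks₂₂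
  set u := fun k => (g : Matrix (Unit ⊕ (Fin m ⊕ Fin m)) (Unit ⊕ (Fin m ⊕ Fin m)) K) (Sum.inr k) (Sum.inl ())
  have key : ∀ (t : K) (x : Fin m ⊕ Fin m → K), (a * t) * (a * t) + (r *ᵥ x) () * (r *ᵥ x) () +
      Cfsg.quadFormPlus m K (t • u + A *ᵥ x) = c * (t * t + Cfsg.quadFormPlus m K x) := fun t x => by
    have h := hc (Sum.elim (fun _ => t) x)
    rw [odd_eq, odd_eq, gv_inl, gv_inr] at h
    simp only [Sum.elim_inl, Sum.elim_comp_inr] at h
    rw [CharTwo.add_mul_self] at h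
    exact h
  have h0 : ∀ x, (r *ᵥ x) () * (r *ᵥ x) () + Cfsg.quadFormPlus m K (A *ᵥ x) = c * Cfsg.quadFormPlus m K x :=
    fun x => by simpa using key 0 x
  have h1 : a * a + Cfsg.quadFormPlus m K u = c := by
    have hz : Cfsg.quadFormPlus m K (0 : Fin m ⊕ Fin m → K) = 0 := by simp [Cfsg.quadFormPlus]
    simpa [Matrix.mulVec_zero, hz] using key 1 0
  have hux : ∀ x, u ⬝ᵥ (Mplus m K *ᵥ (A *ᵥ x)) = 0 := fun x => by
    have h := key 1 x
    rw [one_smul, plus_add, mul_one, mul_one, mul_add, mul_one, ← h0 x, ← h1] at h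
    linear_combination h
  have hA : Aᵀ * Mplus m K * A = (c : K) • Mplus m K := ext_dot fun x y => by
    have h := h0 (x + y)
    rw [Matrix.mulVec_add, Matrix.mulVec_add, Pi.add_apply, CharTwo.add_mul_self, plus_add, plus_add, mul_add,
      mul_add, ← h0 x, ← h0 y] at h
    rw [← dot_mul, Matrix.smul_mulVec, dotProduct_smul, smul_eq_mul]
    linear_combination h
  have hAd : A.det ≠ 0 := fun h => by
    have e := congrArg Matrix.det hA
    rw [Matrix.det_mul, h, mul_zero, Matrix.det_smul, eq_comm, mul_eq_zero] at e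
    exact e.elim (pow_ne_zero _ c.ne_zero) (Mplus_det_two m)
  have hu : u = 0 := by
    refine Matrix.eq_zero_of_vecMul_eq_zero (M := Mplus m K * A) ?_ (dotProduct_eq_zero _ fun x => ?_)
    · rw [Matrix.det_mul]; exact mul_ne_zero (Mplus_det_two m) hAd
    · rw [← Matrix.dotProduct_mulVec, ← Matrix.mulVec_mulVec]; exact hux x
  refine ⟨c, ?_, ?_, hA, fun x => (add_comm _ _).trans (h0 x)⟩
  · ext k j
    exact congrFun hu k
  · rw [← h1, hu]; simp [Cfsg.quadFormPlus]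

end CfsgLib.KnownC.GraphForms
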