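import Cfsg.Agent.Lib.KnownC.GraphForms.TwoEven
import Cfsg.Agent.Lib.KnownC.GraphForms.LinClasses
import Cfsg.Agent.Lib.KnownC.GraphForms.UniClasses

/-!
# The classes of graph involutions in characteristic two
-/

set_option autoImplicit false
set_option linter.unusedSectionVars false

namespace CfsgLib.KnownC.GraphForms

open Matrix

variable {F : Type*} [Field F] [Fintype F] {n m : ℕ}

theorem neg_one_two {K : Type*} [Field K] [CharP K 2] {ε : K} (h : ε = 1 ∨ ε = -1) : ε = 1 := by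
  rcases h with rfl | rfl
  · rfl
  · exact CharTwo.neg_eq 1

theorem lin_two [CharP F 2] (hm : 2 ≤ m) (hnm : n = 2 * m) :
    ∃ (γ₁ γ₃ : MulAut (Matrix.ProjectiveSpecialLinearGroup (Fin n) F)) (t : ↥(Matrix.symplecticGroup (Fin m) F)),
      Cfsg.IsTransvection (t : Matrix (Fin m ⊕ Fin m) (Fin m ⊕ Fin m) F) ∧ Cfsg.IsGraphAutClassPSL γ₁ ∧
      orderOf γ₁ = 2 ∧ Cfsg.IsGraphAutClassPSL γ₃ ∧ orderOf γ₃ = 2 ∧
      ¬ Cfsg.IsConjUnder (Cfsg.inndiagPSL n F) γ₁ γ₃ ∧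
      (∀ γ : MulAut (Matrix.ProjectiveSpecialLinearGroup (Fin n) F), Cfsg.IsGraphAutClassPSL γ → orderOf γ = 2 →
        Cfsg.IsConjUnder (Cfsg.inndiagPSL n F) γ₁ γ ∨ Cfsg.IsConjUnder (Cfsg.inndiagPSL n F) γ₃ γ) ∧
      Nonempty (↥(Cfsg.inndiagPSL n F ⊓ Subgroup.centralizer {γ₁}) ≃* ↥(Matrix.symplecticGroup (Fin m) F)) ∧
      Nonempty (↥(Cfsg.inndiagPSL n F ⊓ Subgroup.centralizer {γ₃}) ≃*
        ↥(Subgroup.centralizer ({t} : Set ↥(Matrix.symplecticGroup (Fin m) F)))) := by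
  have hn : 3 ≤ n := by omega
  haveI : Nonempty (Fin m) := ⟨⟨0, by omega⟩⟩
  let e : Fin m ⊕ Fin m → F := Pi.single (Sum.inl ⟨0, by omega⟩) 1
  have he : e ≠ 0 := fun h => one_ne_zero (α := F) (by simpa [e] using congrFun h (Sum.inl ⟨0, by omega⟩))
  obtain ⟨M1, hs1, hg1, ho1⟩ := Lin.exists_rep hn (Matrix.J (Fin m) F) (J_det_ne m) ((card_plus m).trans hnm.symm)
    (ε := 1) (by rw [J_transpose_two, one_smul])
  obtain ⟨M3, hs3, hg3, ho3⟩ := Lin.exists_rep hn (Nvec e) (Nvec_det e) ((card_plus m).trans hnm.symm)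
    (ε := 1) (by rw [Nvec_transpose, one_smul])
  refine ⟨Lin.gInv M1, Lin.gInv M3, ⟨tvec e, tvec_mem e⟩, tvec_transvection he, hg1, ho1, hg3, ho3, ?_,
    fun γ hγ hγ2 => ?_, ?_, ?_⟩
  · rw [Lin.isConj_iff hn]
    exact fun h => not_similar_J_Nvec he ((hs1.symm.trans h).trans hs3)
  · obtain ⟨M, ε, rfl, hM, hε⟩ := Lin.exists_form hn hγ hγ2
    rw [neg_one_two hε, one_smul] at hM
    rw [Lin.isConj_iff hn, Lin.isConj_iff hn]
    rcases two_even_class hM M.det_ne_zero (m := m) (by rw [Fintype.card_fin, hnm]) he with h | h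
    · exact Or.inl (hs1.trans h.symm)
    · exact Or.inr (hs3.trans h.symm)
  · exact ⟨(Lin.centralizer_similar hn M1 hs1).some.trans projSim_J.some⟩
  · exact ⟨(Lin.centralizer_similar hn M3 hs3).some.trans (projSim_Nvec e).some⟩

theorem uni_two {q : ℕ} [hF : Fact (Fintype.card F = q ^ 2)] (hm : 2 ≤ m) (hnm : n = 2 * m) {F₀ : Type*} [Field F₀]
    [Fintype F₀] [CharP F₀ 2] {σ : F ≃+* F} {ι : F₀ →+* F} (D : Uni.Data q σ ι) :
    ∃ (γ₁ γ₃ : MulAut (Cfsg.PSU n F q)) (t : ↥(Matrix.symplecticGroup (Fin m) F₀)),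
      Cfsg.IsTransvection (t : Matrix (Fin m ⊕ Fin m) (Fin m ⊕ Fin m) F₀) ∧ Cfsg.IsGraphAutClassPSU γ₁ ∧
      orderOf γ₁ = 2 ∧ Cfsg.IsGraphAutClassPSU γ₃ ∧ orderOf γ₃ = 2 ∧
      ¬ Cfsg.IsConjUnder (Cfsg.inndiagPSU n F q) γ₁ γ₃ ∧
      (∀ γ : MulAut (Cfsg.PSU n F q), Cfsg.IsGraphAutClassPSU γ → orderOf γ = 2 →
        Cfsg.IsConjUnder (Cfsg.inndiagPSU n F q) γ₁ γ ∨ Cfsg.IsConjUnder (Cfsg.inndiagPSU n F q) γ₃ γ) ∧
      Nonempty (↥(Cfsg.inndiagPSU n F q ⊓ Subgroup.centralizer {γ₁}) ≃* ↥(Matrix.symplecticGroup (Fin m) F₀)) ∧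
      Nonempty (↥(Cfsg.inndiagPSU n F q ⊓ Subgroup.centralizer {γ₃}) ≃*
        ↥(Subgroup.centralizer ({t} : Set ↥(Matrix.symplecticGroup (Fin m) F₀)))) := by
  have hn : 3 ≤ n := by omega
  have hs : ¬ (n = 3 ∧ q = 2) := fun h => by omega
  haveI : Nonempty (Fin m) := ⟨⟨0, by omega⟩⟩
  let e : Fin m ⊕ Fin m → F₀ := Pi.single (Sum.inl ⟨0, by omega⟩) 1
  have he : e ≠ 0 := fun h => one_ne_zero (α := F₀) (by simpa [e] using congrFun h (Sum.inl ⟨0, by omega⟩))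
  obtain ⟨M1, γ₁, ⟨R1⟩, hs1, hg1, ho1⟩ := Uni.exists_rep_form hn hs D (Matrix.J (Fin m) F₀) (J_det_ne m)
    ((card_plus m).trans hnm.symm) (ε := 1) (Or.inl rfl) (by rw [J_transpose_two, one_smul])
  obtain ⟨M3, γ₃, ⟨R3⟩, hs3, hg3, ho3⟩ := Uni.exists_rep_form hn hs D (Nvec e) (Nvec_det e)
    ((card_plus m).trans hnm.symm) (ε := 1) (Or.inl rfl) (by rw [Nvec_transpose, one_smul])
  refine ⟨γ₁, γ₃, ⟨tvec e, tvec_mem e⟩, tvec_transvection he, hg1, ho1, hg3, ho3, ?_, fun γ hγ hγ2 => ?_, ?_, ?_⟩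
  · rw [Uni.isConj_iff hn hs D R1 R3]
    exact fun h => not_similar_J_Nvec he ((hs1.symm.trans h).trans hs3)
  · obtain ⟨M, ⟨R⟩⟩ := Uni.exists_rep hn hs D hγ hγ2
    have hM := R.hsym
    rw [neg_one_two R.hε, one_smul] at hM
    rw [Uni.isConj_iff hn hs D R1 R, Uni.isConj_iff hn hs D R3 R]
    rcases two_even_class hM M.det_ne_zero (m := m) (by rw [Fintype.card_fin, hnm]) he with h | h
    · exact Or.inl (hs1.trans h.symm)
    · exact Or.inr (hs3.trans h.symm)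
  · exact ⟨(Uni.centralizer_similar hn hs D R1 hs1 rfl).some.trans projSim_J.some⟩
  · exact ⟨(Uni.centralizer_similar hn hs D R3 hs3 rfl).some.trans (projSim_Nvec e).some⟩

end CfsgLib.KnownC.GraphForms
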