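import Cfsg.Agent.Lib.KnownC.GraphForms.Two
import Cfsg.Agent.Lib.Classical.SympMatrix

/-!
# Symmetric forms in characteristic two, even dimension
-/

set_option autoImplicit false
set_option linter.unusedSectionVars false

namespace CfsgLib.KnownC.GraphForms

open Matrix

variable {K : Type*} [Field K] [Finite K] [CharP K 2] {ι κ : Type} [Fintype ι] [DecidableEq ι] [Fintype κ]
  [DecidableEq κ] {m : ℕ}

theorem Similar.congr_two {M : Matrix ι ι K} {M' : Matrix κ κ K} (h : Similar M M') : Congr M M' := by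
  obtain ⟨P, Q, c, h1, h2, h3⟩ := h
  obtain ⟨d, hd⟩ := exists_sqrt_two (c : K)
  have hd0 : d ≠ 0 := fun e => c.ne_zero (by rw [← hd, e, mul_zero])
  refine ⟨d⁻¹ • P, d • Q, ?_, ?_, ?_⟩
  · rw [Matrix.smul_mul, Matrix.mul_smul, h1, smul_smul, inv_mul_cancel₀ hd0, one_smul]
  · rw [Matrix.smul_mul, Matrix.mul_smul, h2, smul_smul, mul_inv_cancel₀ hd0, one_smul]
  · rw [Matrix.transpose_smul, Matrix.smul_mul, Matrix.smul_mul, Matrix.mul_smul, h3, smul_smul, smul_smul, ← hd]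
    convert one_smul K M' using 2
    field_simp

/-- The projective similitude group is the isometry group. -/
theorem projSim_two {H : Type*} [Group H] [Nonempty ι] (N : Matrix ι ι K) (hN : N.det ≠ 0) (φ : H →* GL ι K)
    (hinj : Function.Injective φ)
    (hr : ∀ g : GL ι K, g ∈ φ.range ↔ (g : Matrix ι ι K)ᵀ * N * (g : Matrix ι ι K) = N) :
    Nonempty (Cfsg.projQuot (Sim N) ≃* H) := by
  have hne : N ≠ 0 := fun h => hN (by rw [h, Matrix.det_zero])
  have hmem : ∀ x, φ x ∈ Sim N := fun x => ⟨1, by rw [(hr _).1 ⟨x, rfl⟩, Units.val_one, one_smul]⟩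
  let Φ : H →* Cfsg.projQuot (Sim N) := (QuotientGroup.mk' _).comp (MonoidHom.codRestrict φ _ hmem)
  refine ⟨(MulEquiv.ofBijective Φ ⟨(injective_iff_map_eq_one Φ).2 fun x hx => ?_, fun y => ?_⟩).symm⟩
  · have hx' : φ x ∈ Cfsg.Geo.scalars ι K := (QuotientGroup.eq_one_iff (N :=
      (Cfsg.Geo.scalars ι K).subgroupOf (Sim N)) _).1 hx
    rw [Cfsg.Geo.mem_scalars_iff] at hx'
    obtain ⟨c, hc⟩ := hx'
    have h := (hr (φ x)).1 ⟨x, rfl⟩
    rw [hc, Matrix.transpose_smul, Matrix.transpose_one, Matrix.smul_mul, Matrix.smul_mul, Matrix.mul_smul,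
      Matrix.one_mul, Matrix.mul_one, smul_smul] at h
    have hc1 : (c : K) * c = 1 := by
      by_contra h1
      have : ((c : K) * c - 1) • N = 0 := by rw [sub_smul, h, one_smul, sub_self]
      rcases smul_eq_zero.1 this with h2 | h2
      · exact h1 (sub_eq_zero.1 h2)
      · exact hne h2
    have : φ x = 1 := Units.ext (by
      rw [hc, show (c : K) = 1 from sq_inj (by rw [hc1, mul_one]), one_smul, Units.val_one])
    exact hinj (by rw [this, map_one])
  · induction y using QuotientGroup.induction_on with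
    | _ g =>
      obtain ⟨c, hc⟩ := g.2
      obtain ⟨d, hd⟩ := exists_sqrt_two (c : K)
      have hd0 : d ≠ 0 := fun e => c.ne_zero (by rw [← hd, e, mul_zero])
      let s : GL ι K := Units.map (Matrix.scalar ι : K →+* Matrix ι ι K).toMonoidHom (Units.mk0 d hd0)⁻¹
      have hs : (s : Matrix ι ι K) = d⁻¹ • (1 : Matrix ι ι K) := by simp [s, Matrix.smul_one_eq_diagonal]
      have hsg : ((g.1 * s : GL ι K) : Matrix ι ι K) = d⁻¹ • (g.1 : Matrix ι ι K) := by
        rw [Units.val_mul, hs, Matrix.mul_smul, Matrix.mul_one]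
      obtain ⟨x, hx⟩ : g.1 * s ∈ φ.range := by
        rw [hr, hsg, Matrix.transpose_smul, Matrix.smul_mul, Matrix.smul_mul, Matrix.mul_smul, hc, smul_smul, smul_smul,
          ← hd]
        convert one_smul K N using 2
        field_simp
      refine ⟨x, ?_⟩
      show (QuotientGroup.mk _ : Cfsg.projQuot (Sim N)) = QuotientGroup.mk g
      rw [QuotientGroup.eq, Subgroup.mem_subgroupOf]
      show (φ x)⁻¹ * g.1 ∈ _
      rw [hx, _root_.mul_inv_rev, inv_mul_cancel_right]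
      exact Subgroup.inv_mem _ ⟨_, rfl⟩

/-- The symplectic transvection along `u`. -/
def tvec (u : Fin m ⊕ Fin m → K) : Matrix (Fin m ⊕ Fin m) (Fin m ⊕ Fin m) K :=
  1 + Matrix.vecMulVec u (Matrix.J (Fin m) K *ᵥ u)

/-- The non-alternating form attached to `u`. -/
def Nvec (u : Fin m ⊕ Fin m → K) : Matrix (Fin m ⊕ Fin m) (Fin m ⊕ Fin m) K :=
  Matrix.J (Fin m) K + Matrix.vecMulVec (Matrix.J (Fin m) K *ᵥ u) (Matrix.J (Fin m) K *ᵥ u)

theorem J_transpose_two : (Matrix.J (Fin m) K)ᵀ = Matrix.J (Fin m) K := by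
  rw [J_eq_Mplus, Mplus_transpose]

theorem Nvec_eq (u : Fin m ⊕ Fin m → K) : Nvec u = Matrix.J (Fin m) K * tvec u := by
  rw [Nvec, tvec, Matrix.mul_add, Matrix.mul_one, Matrix.mul_vecMulVec]

theorem tvec_mem (u : Fin m ⊕ Fin m → K) : tvec u ∈ Matrix.symplecticGroup (Fin m) K := by
  rw [SymplecticGroup.mem_iff']
  have hv : ∀ v, v ⬝ᵥ (Matrix.J (Fin m) K *ᵥ v) = 0 := J_alt
  rw [Matrix.mul_assoc, ← Nvec_eq, tvec, Nvec, Matrix.transpose_add, Matrix.transpose_one, Matrix.transpose_vecMulVec,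
    Matrix.add_mul, Matrix.mul_add, Matrix.mul_add, Matrix.one_mul, Matrix.one_mul, Matrix.vecMulVec_mul,
    Matrix.vecMulVec_mul_vecMulVec, hv, zero_smul, Matrix.vecMulVec_zero, add_zero, ← Matrix.mulVec_transpose,
    J_transpose_two]
  rw [add_assoc]
  conv_rhs => rw [← add_zero (Matrix.J (Fin m) K)]
  congr 1
  ext i j
  exact CharTwo.add_self_eq_zero _

theorem Nvec_det (u : Fin m ⊕ Fin m → K) : (Nvec u).det ≠ 0 := by
  rw [Nvec_eq, Matrix.det_mul, SymplecticGroup.det_eq_one (tvec_mem u), mul_one]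
  exact (Matrix.isUnit_det_J (Fin m) K).ne_zero

theorem Nvec_transpose (u : Fin m ⊕ Fin m → K) : (Nvec u)ᵀ = Nvec u := by
  rw [Nvec, Matrix.transpose_add, J_transpose_two, Matrix.transpose_vecMulVec]

theorem Nvec_quad (u v : Fin m ⊕ Fin m → K) :
    v ⬝ᵥ (Nvec u *ᵥ v) = ((Matrix.J (Fin m) K *ᵥ u) ⬝ᵥ v) * ((Matrix.J (Fin m) K *ᵥ u) ⬝ᵥ v) := by
  rw [Nvec, Matrix.add_mulVec, dotProduct_add, J_alt, zero_add, Matrix.vecMulVec_mulVec, op_smul_eq_smul,
    dotProduct_smul, dotProduct_comm v, smul_eq_mul]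

theorem J_mulVec_ne {u : Fin m ⊕ Fin m → K} (hu : u ≠ 0) : Matrix.J (Fin m) K *ᵥ u ≠ 0 := fun h =>
  hu (Matrix.eq_zero_of_mulVec_eq_zero (Matrix.isUnit_det_J (Fin m) K).ne_zero h)

theorem tvec_transvection {u : Fin m ⊕ Fin m → K} (hu : u ≠ 0) : Cfsg.IsTransvection (tvec u) := by
  refine ⟨?_, ?_⟩
  · rw [tvec, add_sub_cancel_left]
    refine le_antisymm (Matrix.rank_vecMulVec_le _ _) (Nat.one_le_iff_ne_zero.2 fun h => ?_)
    obtain ⟨i, hi⟩ := Function.ne_iff.1 hu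
    obtain ⟨j, hj⟩ := Function.ne_iff.1 (J_mulVec_ne hu)
    have h0 : Matrix.vecMulVec u (Matrix.J (Fin m) K *ᵥ u) = 0 := by
      have h1 := h
      rw [Matrix.rank, Submodule.finrank_eq_zero, LinearMap.range_eq_bot] at h1
      refine Matrix.ext fun a b => ?_
      have h2 := congrFun (LinearMap.congr_fun h1 (Pi.single b 1)) a
      simpa using h2
    have := congrFun (congrFun h0 i) j
    rw [Matrix.vecMulVec_apply] at this
    exact mul_ne_zero hi hj this
  · rw [tvec, add_sub_cancel_left, Matrix.vecMulVec_mul_vecMulVec, dotProduct_comm, J_alt, zero_smul,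
      Matrix.vecMulVec_zero]

theorem congr_Nvec {u u' : Fin m ⊕ Fin m → K} (hu : u ≠ 0) (hu' : u' ≠ 0) : Congr (Nvec u') (Nvec u) := by
  obtain ⟨A, hA⟩ := Classical.sp_transitive m hu hu'
  have hJ : A.1ᵀ * Matrix.J (Fin m) K * A.1 = Matrix.J (Fin m) K := SymplecticGroup.mem_iff'.1 A.2
  have hv : A.1ᵀ *ᵥ (Matrix.J (Fin m) K *ᵥ u') = Matrix.J (Fin m) K *ᵥ u := by
    rw [← hA, Matrix.mulVec_mulVec, Matrix.mulVec_mulVec, hJ]
  refine congr_of_columns A.1 ?_ rfl (Nvec_det u)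
  rw [Nvec, Nvec, Matrix.mul_add, Matrix.add_mul, hJ, Matrix.mul_vecMulVec, hv, Matrix.vecMulVec_mul,
    ← Matrix.mulVec_transpose, hv]

/-- The alternating part of a symmetric form with isotropic characteristic vector. -/
theorem alt_part {α : Type} [Fintype α] [DecidableEq α] {M : Matrix α α K} (hu : M.det ≠ 0) {w s : α → K}
    (hs : M *ᵥ w = s) (hw : ∀ v, v ⬝ᵥ (M *ᵥ v) = (s ⬝ᵥ v) * (s ⬝ᵥ v)) (hL : s ⬝ᵥ w = 0) :
    (∀ v, v ⬝ᵥ ((M + Matrix.vecMulVec s s) *ᵥ v) = 0) ∧ (M + Matrix.vecMulVec s s).det ≠ 0 := by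
  refine ⟨fun v => ?_, fun h => ?_⟩
  · rw [Matrix.add_mulVec, dotProduct_add, hw, Matrix.vecMulVec_mulVec, op_smul_eq_smul, dotProduct_smul,
      dotProduct_comm v, smul_eq_mul, CharTwo.add_self_eq_zero]
  · obtain ⟨v, hv0, hv⟩ := Matrix.exists_mulVec_eq_zero_iff.2 h
    rw [Matrix.add_mulVec, Matrix.vecMulVec_mulVec, op_smul_eq_smul, add_eq_zero_iff_eq_neg, ← neg_smul,
      CharTwo.neg_eq, ← hs, ← Matrix.mulVec_smul, hs] at hv
    have hv' : v = (s ⬝ᵥ v) • w :=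
      Matrix.mulVec_injective_iff_isUnit.2 ((Matrix.isUnit_iff_isUnit_det _).2 (isUnit_iff_ne_zero.2 hu)) hv
    have h0 : s ⬝ᵥ v = 0 := by rw [hv', dotProduct_smul, hL, smul_zero]
    exact hv0 (by rw [hv', h0, zero_smul])

/-- Classification in even dimension. -/
theorem two_even_class {M : Matrix ι ι K} (hM : Mᵀ = M) (hu : M.det ≠ 0) (hm : Fintype.card ι = 2 * m)
    {e : Fin m ⊕ Fin m → K} (he : e ≠ 0) : Similar M (Matrix.J (Fin m) K) ∨ Similar M (Nvec e) := by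
  by_cases halt : ∀ v, v ⬝ᵥ (M *ᵥ v) = 0
  · obtain ⟨m', hm', hs⟩ := similar_J halt hu
    obtain rfl : m' = m := by omega
    exact Or.inl hs
  obtain ⟨w, hw⟩ := exists_char_vec hM hu
  set s := M *ᵥ w
  have hws : ∀ v, w ⬝ᵥ (M *ᵥ v) = s ⬝ᵥ v := fun v => by
    rw [Matrix.dotProduct_mulVec, ← Matrix.mulVec_transpose, hM]
  have hws0 : s ≠ 0 := fun h => halt fun v => by rw [hw, hws, h, zero_dotProduct, zero_mul]
  -- the characteristic vector is isotropic
  have hL : s ⬝ᵥ w = 0 := by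
    by_contra h
    have h1 : s ⬝ᵥ w = 1 := by
      have hh := hw w
      rw [hws] at hh
      exact (mul_right_eq_self₀.1 hh.symm).resolve_right h
    set E : Matrix (ι ⊕ Unit) (ι ⊕ Unit) K := Matrix.fromBlocks M 0 0 1
    have hE : ∀ x, x ⬝ᵥ (E *ᵥ x) = (Sum.elim s (fun _ => 1) ⬝ᵥ x) * (Sum.elim s (fun _ => 1) ⬝ᵥ x) := fun x => by
      rw [Matrix.fromBlocks_mulVec, Matrix.zero_mulVec, Matrix.zero_mulVec, add_zero, zero_add, Matrix.one_mulVec]
      simp only [dotProduct, Fintype.sum_sum_type, Sum.elim_inl, Sum.elim_inr, one_mul, Fintype.sum_unique,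
        Function.comp_apply]
      rw [CharTwo.add_mul_self]
      congr 1
      exact (hw (x ∘ Sum.inl)).trans (by rw [hws]; rfl)
    obtain ⟨hA, hd⟩ := alt_part (M := E) (w := Sum.elim w fun _ => 1) (s := Sum.elim s fun _ => 1)
      (by rw [Matrix.det_fromBlocks_zero₁₂, Matrix.det_one, mul_one]; exact hu)
      (by
        rw [Matrix.fromBlocks_mulVec, Matrix.zero_mulVec, Matrix.zero_mulVec, add_zero, zero_add, Matrix.one_mulVec,
          Sum.elim_comp_inl, Sum.elim_comp_inr]) hE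
      (by
        rw [dotProduct, Fintype.sum_sum_type]
        simp only [Sum.elim_inl, Sum.elim_inr, Fintype.sum_unique, one_mul]
        rw [show (∑ i, s i * w i) = 1 from h1, CharTwo.add_self_eq_zero])
    obtain ⟨m', hm', -⟩ := similar_J hA hd
    rw [Fintype.card_sum, Fintype.card_unit, hm] at hm'
    omega
  set B' := M + Matrix.vecMulVec s s
  obtain ⟨hA, hd⟩ := alt_part (M := M) hu (w := w) (s := s) rfl (fun v => by rw [hw, hws]) hL
  obtain ⟨m', hm', hs⟩ := similar_J hA hd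
  obtain rfl : m' = m := by omega
  obtain ⟨P, Q, h1, h2, h3⟩ := hs.congr_two
  set u := Q *ᵥ w
  have hB'w : B' *ᵥ w = s := by
    rw [Matrix.add_mulVec, Matrix.vecMulVec_mulVec, hL, MulOpposite.op_zero, zero_smul, add_zero]
  have hsP : Pᵀ *ᵥ s = Matrix.J (Fin m') K *ᵥ u := by
    have hwP : P *ᵥ u = w := by rw [Matrix.mulVec_mulVec, h1, Matrix.one_mulVec]
    rw [← hB'w, ← h3, ← hwP]
    simp only [← Matrix.mulVec_mulVec]
    rfl
  have hu0 : u ≠ 0 := fun h => hws0 (by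
    have hwP : P *ᵥ u = w := by rw [Matrix.mulVec_mulVec, h1, Matrix.one_mulVec]
    rw [← hB'w, ← hwP, h, Matrix.mulVec_zero, Matrix.mulVec_zero])
  have hcongr : Congr M (Nvec u) := by
    refine ⟨P, Q, h1, h2, ?_⟩
    have e : M = B' + Matrix.vecMulVec s s := by
      rw [show B' = M + Matrix.vecMulVec s s from rfl, add_assoc]
      conv_lhs => rw [← add_zero M]
      congr 1
      ext i j
      exact (CharTwo.add_self_eq_zero _).symm
    rw [e, Matrix.mul_add, Matrix.add_mul, h3, Matrix.mul_vecMulVec, Matrix.vecMulVec_mul, ← Matrix.mulVec_transpose,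
      hsP, Nvec]
  exact Or.inr (hcongr.trans (congr_Nvec he hu0)).similar

theorem not_similar_J_Nvec {u : Fin m ⊕ Fin m → K} (hu : u ≠ 0) : ¬ Similar (Matrix.J (Fin m) K) (Nvec u) := fun h => by
  obtain ⟨P, Q, c, -, -, h3⟩ := h
  obtain ⟨j, hj⟩ := Function.ne_iff.1 (J_mulVec_ne hu)
  have h1 := congrArg (fun X => (Pi.single j (1 : K)) ⬝ᵥ (X *ᵥ Pi.single j 1)) h3
  have h2 : ∀ x, x ⬝ᵥ ((Pᵀ * Matrix.J (Fin m) K * P) *ᵥ x) = 0 := fun x => by
    rw [← Matrix.mulVec_mulVec, ← Matrix.mulVec_mulVec, Matrix.dotProduct_mulVec x Pᵀ, Matrix.vecMul_transpose, J_alt]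
  rw [h2, Matrix.smul_mulVec, dotProduct_smul, Nvec_quad, smul_eq_mul, eq_comm, mul_eq_zero] at h1
  refine h1.elim c.ne_zero fun h => hj ?_
  rw [dotProduct_single, mul_one] at h
  exact mul_self_eq_zero.1 h

theorem projSim_J [Nonempty (Fin m)] :
    Nonempty (Cfsg.projQuot (Sim (Matrix.J (Fin m) K)) ≃* ↥(Matrix.symplecticGroup (Fin m) K)) := by
  refine projSim_two _ (Matrix.isUnit_det_J (Fin m) K).ne_zero
    ((Cfsg.spGL m K).subtype.comp (Classical.spGLEquiv (F := K) m).toMonoidHom)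
    (fun a b h => (Classical.spGLEquiv m).injective (Subtype.val_injective h)) fun g => ?_
  rw [← SymplecticGroup.mem_iff', ← Classical.mem_spGL_iff]
  exact ⟨fun ⟨x, hx⟩ => hx ▸ (Classical.spGLEquiv m x).2,
    fun h => ⟨(Classical.spGLEquiv m).symm ⟨g, h⟩, congrArg Subtype.val ((Classical.spGLEquiv m).apply_symm_apply _)⟩⟩

theorem isom_Nvec_iff (u : Fin m ⊕ Fin m → K) (g : Matrix (Fin m ⊕ Fin m) (Fin m ⊕ Fin m) K) :
    gᵀ * Nvec u * g = Nvec u ↔ g ∈ Matrix.symplecticGroup (Fin m) K ∧ g * tvec u = tvec u * g := by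
  constructor
  · intro h
    set s := Matrix.J (Fin m) K *ᵥ u
    have hs : gᵀ *ᵥ s = s := by
      refine dotProduct_eq _ _ fun v => ?_
      apply sq_inj
      have h1 := congrArg (fun X => v ⬝ᵥ (X *ᵥ v)) h
      rw [← dot_mul, Nvec_quad, Nvec_quad] at h1
      rw [Matrix.mulVec_transpose, ← Matrix.dotProduct_mulVec]
      exact h1
    have hJ : gᵀ * Matrix.J (Fin m) K * g = Matrix.J (Fin m) K := by
      have h1 := h
      rw [Nvec, Matrix.mul_add, Matrix.add_mul, Matrix.mul_vecMulVec, Matrix.vecMulVec_mul, ← Matrix.mulVec_transpose,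
        hs] at h1
      exact add_right_cancel h1
    refine ⟨SymplecticGroup.mem_iff'.2 hJ, ?_⟩
    have hd : IsUnit (gᵀ * Matrix.J (Fin m) K) := by
      rw [Matrix.isUnit_iff_isUnit_det, isUnit_iff_ne_zero, Matrix.det_mul, Matrix.det_transpose,
        SymplecticGroup.det_eq_one (SymplecticGroup.mem_iff'.2 hJ), one_mul]
      exact (Matrix.isUnit_det_J (Fin m) K).ne_zero
    refine (hd.mul_right_injective ?_).symm
    show gᵀ * Matrix.J (Fin m) K * (tvec u * g) = gᵀ * Matrix.J (Fin m) K * (g * tvec u)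
    rw [← Matrix.mul_assoc (gᵀ * Matrix.J (Fin m) K) g, hJ, ← Nvec_eq, ← Matrix.mul_assoc, Matrix.mul_assoc gᵀ,
      ← Nvec_eq, h]
  · rintro ⟨hg, hc⟩
    have hJ := SymplecticGroup.mem_iff'.1 hg
    calc gᵀ * Nvec u * g = gᵀ * Matrix.J (Fin m) K * (tvec u * g) := by rw [Nvec_eq]; simp only [Matrix.mul_assoc]
      _ = gᵀ * Matrix.J (Fin m) K * g * tvec u := by rw [← hc]; simp only [Matrix.mul_assoc]
      _ = Nvec u := by rw [hJ, ← Nvec_eq]

theorem projSim_Nvec [Nonempty (Fin m)] (u : Fin m ⊕ Fin m → K) :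
    Nonempty (Cfsg.projQuot (Sim (Nvec u)) ≃*
      ↥(Subgroup.centralizer ({⟨tvec u, tvec_mem u⟩} : Set ↥(Matrix.symplecticGroup (Fin m) K)))) := by
  refine projSim_two _ (Nvec_det u)
    (((Cfsg.spGL m K).subtype.comp (Classical.spGLEquiv (F := K) m).toMonoidHom).comp (Subgroup.subtype _))
    (fun a b h => Subtype.val_injective ((Classical.spGLEquiv m).injective (Subtype.val_injective h))) fun g => ?_
  rw [isom_Nvec_iff]
  constructor
  · rintro ⟨x, rfl⟩
    exact ⟨x.1.2, congrArg Subtype.val (Subgroup.mem_centralizer_singleton_iff.1 x.2)⟩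
  · rintro ⟨h1, h2⟩
    exact ⟨⟨⟨_, h1⟩, Subgroup.mem_centralizer_singleton_iff.2 (Subtype.ext h2)⟩, Units.ext rfl⟩

end CfsgLib.KnownC.GraphForms
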