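import Cfsg.Agent.Lib.KnownC.GraphForms.Two
import Cfsg.Agent.Lib.KnownC.GraphForms.Classes

/-!
# The odd-dimensional orthogonal similitude group in characteristic two
-/

set_option autoImplicit false
set_option linter.unusedSectionVars false

namespace CfsgLib.KnownC.GraphForms

open Matrix

variable {K : Type*} [Field K]

section

variable [Finite K] [CharP K 2] {m : ℕ}

local notation "G0" => GL (Unit ⊕ (Fin m ⊕ Fin m)) K
local notation "GO0" => Cfsg.Geo.quadSimilarityGroup (F := K) (Cfsg.quadFormOdd m K)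
local notation "Mt" => Matrix (Unit ⊕ (Fin m ⊕ Fin m)) (Unit ⊕ (Fin m ⊕ Fin m)) K

/-- Forgetting the radical part. -/
def eraseMat (g : Mt) : Mt := Matrix.fromBlocks g.toBlocks₁₁ 0 0 g.toBlocks₂₂

theorem eraseMat_mul {g h : Mt} (hg : g.toBlocks₂₁ = 0) (hh : h.toBlocks₂₁ = 0) :
    eraseMat (g * h) = eraseMat g * eraseMat h := by
  have e : g * h = Matrix.fromBlocks (g.toBlocks₁₁ * h.toBlocks₁₁)
      (g.toBlocks₁₁ * h.toBlocks₁₂ + g.toBlocks₁₂ * h.toBlocks₂₂) 0 (g.toBlocks₂₂ * h.toBlocks₂₂) := by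
    conv_lhs => rw [← Matrix.fromBlocks_toBlocks g, ← Matrix.fromBlocks_toBlocks h, hg, hh, Matrix.fromBlocks_multiply]
    simp
  rw [eraseMat, e, Matrix.toBlocks_fromBlocks₁₁, Matrix.toBlocks_fromBlocks₂₂, eraseMat, eraseMat,
    Matrix.fromBlocks_multiply]
  simp

theorem shape21 (g : GO0) : (g.1 : Mt).toBlocks₂₁ = 0 := (odd_sim_shape g.2).choose_spec.1

theorem eraseMat_one : eraseMat (1 : Mt) = 1 := by
  rw [eraseMat, ← Matrix.fromBlocks_one, Matrix.toBlocks_fromBlocks₁₁, Matrix.toBlocks_fromBlocks₂₂]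

/-- Forgetting the radical part, as a homomorphism. -/
noncomputable def eraseHom : GO0 →* G0 where
  toFun g := ⟨eraseMat (g.1 : Mt), eraseMat ((g⁻¹ : GO0).1 : Mt), by
    rw [← eraseMat_mul (shape21 g) (shape21 g⁻¹), Subgroup.coe_inv, g.1.mul_inv, eraseMat_one], by
    rw [← eraseMat_mul (shape21 g⁻¹) (shape21 g), Subgroup.coe_inv, g.1.inv_mul, eraseMat_one]⟩
  map_one' := Units.ext eraseMat_one
  map_mul' g h := Units.ext (eraseMat_mul (shape21 g) (shape21 h))

theorem eraseHom_mem (g : GO0) : eraseHom g ∈ Sim (Modd2 m K) := by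
  obtain ⟨c, -, h11, h22, -⟩ := odd_sim_shape g.2
  refine ⟨c, ?_⟩
  show (eraseMat (g.1 : Mt))ᵀ * Modd2 m K * eraseMat (g.1 : Mt) = _
  simp only [eraseMat, Modd2, Matrix.fromBlocks_transpose, Matrix.fromBlocks_multiply, Matrix.fromBlocks_smul,
    Matrix.transpose_zero, Matrix.zero_mul, Matrix.mul_zero, add_zero, zero_add, Matrix.mul_one, smul_zero, h22]
  congr 1
  ext i j
  simp only [Matrix.mul_apply, Fintype.sum_unique, Matrix.transpose_apply, Matrix.smul_apply, smul_eq_mul]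
  obtain rfl : i = () := rfl
  obtain rfl : j = () := rfl
  simpa using h11

theorem semilinear_zero (D : (Fin m ⊕ Fin m → K) → K) (hadd : ∀ x y, D (x + y) = D x + D y)
    (hsmul : ∀ (t : K) x, D (t • x) = t * t * D x) (h0 : ∀ i, D (Pi.single i 1) = 0) (x : Fin m ⊕ Fin m → K) : D x = 0 := by
  have hz : D 0 = 0 := by simpa using hsmul 0 0
  have h : x = ∑ i, x i • (Pi.single i (1 : K) : Fin m ⊕ Fin m → K) := by
    funext j; simp [Finset.sum_apply, Pi.single_apply]
  rw [h]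
  have hsum : ∀ s : Finset (Fin m ⊕ Fin m), D (∑ i ∈ s, x i • (Pi.single i (1 : K) : Fin m ⊕ Fin m → K)) = 0 := by
    intro s
    induction s using Finset.induction_on with
    | empty => simpa using hz
    | insert a s ha ih => rw [Finset.sum_insert ha, hadd, hsmul, h0, ih, mul_zero, add_zero]
  exact hsum _

theorem plus_single (i : Fin m ⊕ Fin m) : Cfsg.quadFormPlus m K (Pi.single i 1) = 0 := by
  rw [Cfsg.quadFormPlus]
  refine Finset.sum_eq_zero fun j _ => ?_
  rcases i with i | i <;> simp [Pi.single_apply]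

theorem exists_pre {h : G0} (hh : h ∈ Sim (Modd2 m K)) : ∃ g : GO0, eraseHom g = h := by
  obtain ⟨c, hc⟩ := hh
  set a := (h : Mt).toBlocks₁₁
  set r := (h : Mt).toBlocks₁₂
  set s := (h : Mt).toBlocks₂₁
  set A := (h : Mt).toBlocks₂₂
  obtain ⟨d, hd⟩ := exists_sqrt_two (c : K)
  have hM : ∀ v, v ⬝ᵥ (Modd2 m K *ᵥ v) = v (Sum.inl ()) * v (Sum.inl ()) := fun v => by
    rw [Modd2, Matrix.fromBlocks_mulVec, dotProduct, Fintype.sum_sum_type]
    have hp := CharTwo.add_self_eq_zero (∑ i, (v (Sum.inr (Sum.inl i)) * v (Sum.inr (Sum.inr i))))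
    have e := dot_sum (v ∘ Sum.inr) (v ∘ Sum.inr)
    simp only [Function.comp_apply] at e
    rw [← Finset.sum_add_distrib] at hp
    simp only [Matrix.zero_mulVec, Matrix.one_mulVec, add_zero, zero_add, Sum.elim_inl, Sum.elim_inr, Fintype.sum_unique,
      Function.comp_apply]
    rw [show ∑ x, v (Sum.inr x) * (Mplus m K *ᵥ (v ∘ Sum.inr)) x = (v ∘ Sum.inr) ⬝ᵥ (Mplus m K *ᵥ (v ∘ Sum.inr)) from rfl,
      dot_sum, show (∑ i, ((v ∘ Sum.inr) (Sum.inl i) * (v ∘ Sum.inr) (Sum.inr i) +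
        (v ∘ Sum.inr) (Sum.inr i) * (v ∘ Sum.inr) (Sum.inl i))) = 0 from by
          refine Finset.sum_eq_zero fun i _ => ?_
          rw [mul_comm ((v ∘ Sum.inr) (Sum.inr i))]; exact CharTwo.add_self_eq_zero _, add_zero]
  have hrow : ∀ v, ((h : Mt) *ᵥ v) (Sum.inl ()) = d * v (Sum.inl ()) := fun v => by
    apply sq_inj
    rw [← hM, dot_mul, hc, Matrix.smul_mulVec, dotProduct_smul, hM, smul_eq_mul, ← hd]
    ring
  have ha : a () () = d := by
    have := hrow (Pi.single (Sum.inl ()) 1)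
    simpa [a, Matrix.toBlocks₁₁] using this
  have hr : r = 0 := by
    ext i k
    have := hrow (Pi.single (Sum.inr k) 1)
    simpa [r, Matrix.toBlocks₁₂] using this
  have hfull : Matrix.fromBlocks a 0 s A = (h : Mt) := by rw [← hr]; exact Matrix.fromBlocks_toBlocks _
  have hblocks := hc
  rw [← hfull, Modd2, Matrix.fromBlocks_transpose, Matrix.fromBlocks_multiply, Matrix.fromBlocks_multiply,
    Matrix.fromBlocks_smul, Matrix.fromBlocks_inj] at hblocks
  simp only [Matrix.transpose_zero, Matrix.zero_mul, Matrix.mul_zero, add_zero, zero_add, smul_zero,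
    Matrix.mul_one] at hblocks
  obtain ⟨-, h12, -, h22⟩ := hblocks
  have hAd : A.det ≠ 0 := fun h0 => by
    have e := congrArg Matrix.det h22
    rw [Matrix.det_mul, h0, mul_zero, Matrix.det_smul, eq_comm, mul_eq_zero] at e
    exact e.elim (pow_ne_zero _ c.ne_zero) (Mplus_det_two m)
  have hs0 : s = 0 := by
    ext k i
    refine congrFun (Matrix.eq_zero_of_vecMul_eq_zero (M := Mplus m K * A)
      (by rw [Matrix.det_mul]; exact mul_ne_zero (Mplus_det_two m) hAd) (v := fun k => s k ()) (funext fun j => ?_)) k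
    have := congrFun (congrFun h12 ()) j
    rw [Matrix.mul_assoc, Matrix.mul_apply] at this
    simpa [Matrix.vecMul, dotProduct] using this
  choose r' hr' using fun j => exists_sqrt_two (Cfsg.quadFormPlus m K (A *ᵥ Pi.single j 1))
  let g : Mt := Matrix.fromBlocks a (Matrix.of fun (_ : Unit) j => r' j) 0 A
  have hD : ∀ x, Cfsg.quadFormPlus m K (A *ᵥ x) + (r' ⬝ᵥ x) * (r' ⬝ᵥ x) + (c : K) * Cfsg.quadFormPlus m K x = 0 := by
    refine semilinear_zero _ (fun x y => ?_) (fun t x => ?_) (fun i => ?_)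
    · rw [Matrix.mulVec_add, plus_add, plus_add, dotProduct_add, CharTwo.add_mul_self, dot_mul, h22, Matrix.smul_mulVec,
        dotProduct_smul, smul_eq_mul]
      linear_combination CharTwo.add_self_eq_zero ((c : K) * (x ⬝ᵥ (Mplus m K *ᵥ y)))
    · rw [Matrix.mulVec_smul, plus_smul, plus_smul, dotProduct_smul, smul_eq_mul]; ring
    · rw [plus_single, mul_zero, add_zero, dotProduct_single, mul_one, hr', CharTwo.add_self_eq_zero]
  have hgd : g.det ≠ 0 := by
    rw [Matrix.det_fromBlocks_zero₂₁, Matrix.det_unique, show (default : Unit) = () from rfl, ha]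
    exact mul_ne_zero (fun h0 => c.ne_zero (by rw [← hd, h0, mul_zero])) hAd
  let G : G0 := Matrix.GeneralLinearGroup.mkOfDetNeZero g hgd
  have hG : G ∈ GO0 := by
    refine ⟨c, fun v => ?_⟩
    show Cfsg.quadFormOdd m K (g *ᵥ v) = _
    rw [odd_eq, odd_eq, gv_inl, gv_inr]
    simp only [g, Matrix.toBlocks_fromBlocks₁₁, Matrix.toBlocks_fromBlocks₁₂, Matrix.toBlocks_fromBlocks₂₂,
      Matrix.fromBlocks_apply₂₁, Matrix.zero_apply]
    rw [show (fun _ : Fin m ⊕ Fin m => (0 : K)) = 0 from rfl, smul_zero, zero_add,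
      show ((Matrix.of fun (_ : Unit) j => r' j) *ᵥ (v ∘ Sum.inr)) () = r' ⬝ᵥ (v ∘ Sum.inr) from rfl, ha,
      CharTwo.add_mul_self]
    linear_combination hD (v ∘ Sum.inr) + v (Sum.inl ()) * v (Sum.inl ()) * hd -
      CharTwo.add_self_eq_zero ((c : K) * Cfsg.quadFormPlus m K (v ∘ Sum.inr))
  refine ⟨⟨G, hG⟩, Units.ext ?_⟩
  show eraseMat g = _
  rw [eraseMat, Matrix.toBlocks_fromBlocks₁₁, Matrix.toBlocks_fromBlocks₂₂, ← hfull, hs0]

theorem pgo_odd_two : Nonempty (Cfsg.PGO K (Cfsg.quadFormOdd m K) ≃* Cfsg.projQuot (Sim (Modd2 m K))) := by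
  let Φ : GO0 →* Cfsg.projQuot (Sim (Modd2 m K)) :=
    (QuotientGroup.mk' _).comp (MonoidHom.codRestrict eraseHom _ eraseHom_mem)
  have hΦ : Function.Surjective Φ := fun x => by
    induction x using QuotientGroup.induction_on with
    | _ h =>
      obtain ⟨g, hg⟩ := exists_pre h.2
      exact ⟨g, congrArg QuotientGroup.mk (Subtype.ext hg)⟩
  have hker : Φ.ker = (Cfsg.Geo.scalars (Unit ⊕ (Fin m ⊕ Fin m)) K).subgroupOf GO0 := by
    ext g
    rw [MonoidHom.mem_ker, Subgroup.mem_subgroupOf, Cfsg.Geo.mem_scalars_iff]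
    show (QuotientGroup.mk _ : Cfsg.projQuot (Sim (Modd2 m K))) = 1 ↔ _
    rw [QuotientGroup.eq_one_iff, Subgroup.mem_subgroupOf, Cfsg.Geo.mem_scalars_iff]
    show (∃ t : Kˣ, eraseMat (g.1 : Mt) = _) ↔ _
    constructor
    · rintro ⟨t, ht⟩
      obtain ⟨c, h21, h11, -, hq⟩ := odd_sim_shape g.2
      rw [eraseMat, ← Matrix.fromBlocks_one, Matrix.fromBlocks_smul, Matrix.fromBlocks_inj, smul_zero, smul_zero] at ht
      obtain ⟨hta, -, -, htA⟩ := ht
      have hr : (g.1 : Mt).toBlocks₁₂ = 0 := by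
        ext i j
        obtain rfl : i = () := rfl
        have hct : (c : K) = t * t := by rw [← h11, hta]; simp
        have h := hq (Pi.single j 1)
        rw [htA, Matrix.smul_mulVec, Matrix.one_mulVec, plus_smul, plus_single, mul_zero, mul_zero, zero_add,
          Matrix.mulVec_single_one] at h
        exact mul_self_eq_zero.1 h
      refine ⟨t, ?_⟩
      rw [← Matrix.fromBlocks_toBlocks (g.1 : Mt), h21, hr, hta, htA,
        show ((t : K) • (1 : Mt)) = Matrix.fromBlocks ((t : K) • 1) 0 0 ((t : K) • 1) by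
          rw [← Matrix.fromBlocks_one, Matrix.fromBlocks_smul, smul_zero, smul_zero]]
    · rintro ⟨t, ht⟩
      refine ⟨t, ?_⟩
      rw [eraseMat, ht, ← Matrix.fromBlocks_one, Matrix.fromBlocks_smul, Matrix.toBlocks_fromBlocks₁₁,
        Matrix.toBlocks_fromBlocks₂₂, smul_zero, smul_zero]
  exact ⟨(QuotientGroup.quotientMulEquivOfEq hker.symm).trans (QuotientGroup.quotientKerEquivOfSurjective Φ hΦ)⟩

end

/-- The odd-dimensional form in any characteristic. -/
theorem odd_form [Finite K] (m : ℕ) :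
    ∃ N : Matrix (Unit ⊕ (Fin m ⊕ Fin m)) (Unit ⊕ (Fin m ⊕ Fin m)) K, Nᵀ = N ∧ N.det ≠ 0 ∧
      Nonempty (Cfsg.PGO K (Cfsg.quadFormOdd m K) ≃* Cfsg.projQuot (Sim N)) ∧
      ∀ {ι : Type} [Fintype ι] [DecidableEq ι] (M : Matrix ι ι K), Mᵀ = M → M.det ≠ 0 → Fintype.card ι = 2 * m + 1 →
        Similar M N := by
  by_cases h2 : (2 : K) = 0
  · haveI : CharP K 2 := CharTwo.of_one_ne_zero_of_two_eq_zero one_ne_zero h2
    exact ⟨Modd2 m K, Modd2_transpose m, Modd2_det m, pgo_odd_two, fun M hM hu hc => (congr_odd_two hM hu hc).similar⟩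
  · refine ⟨Modd m K, Modd_transpose m, Modd_det h2 m, ?_, fun M hM hu hc => ?_⟩
    · rw [← pgo_odd h2]; exact ⟨MulEquiv.refl _⟩
    · exact similar_of_odd h2 hM (Modd_transpose m) (hc.trans (card_odd_form m).symm) hu (Modd_det h2 m)
        (hc ▸ odd_two_mul_add_one m)

end CfsgLib.KnownC.GraphForms
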