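import Cfsg.Agent.Lib.KnownC.GraphForms.Facts
import Cfsg.Agent.Lib.KnownC.AutPSU.FieldClass
import Cfsg.Agent.Lib.KnownC.AutPSU.Balance.Graph

/-!
# Involutory graph automorphisms of `PSU_n` as forms over the subfield
-/

set_option autoImplicit false
set_option linter.unusedSectionVars false

namespace CfsgLib.KnownC.GraphForms.Uni

open Matrix CfsgLib.Classical CfsgLib.KnownC.GUConj CfsgLib.KnownC.AutPSU

variable {F : Type*} [Field F] [Fintype F] {n q : ℕ} [hF : Fact (Fintype.card F = q ^ 2)]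
  {F₀ : Type*} [Field F₀] [Fintype F₀]

/-- The conjugation of `F` and the embedding of its fixed field. -/
structure Data (q : ℕ) (σ : F ≃+* F) (ι : F₀ →+* F) : Prop where
  pow : ∀ x, σ x = x ^ q
  fix : ∀ x, σ x = x ↔ x ∈ Set.range ι
  conj : IsConjugation σ.toRingHom

local notation "GUn" => Cfsg.GU n F q
local notation "PSUn" => Cfsg.PSU n F q
local notation "Gln" => GL (Fin n) F
local notation "M₀" => Matrix (Fin n) (Fin n) F₀

theorem exists_data (hF₀ : Fintype.card F₀ = q) : ∃ (σ : F ≃+* F) (ι : F₀ →+* F), Data q σ ι := by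
  obtain ⟨θ, hθ, hc⟩ := exists_frob hF.out
  let σ : F ≃+* F := RingEquiv.ofBijective θ ⟨θ.injective, Finite.surjective_of_injective θ.injective⟩
  have hs : σ.toRingHom = θ := RingHom.ext fun _ => rfl
  obtain ⟨p, hp⟩ := CharP.exists F
  obtain ⟨N, hp', hN⟩ := FiniteField.card F p
  haveI := Fact.mk hp'
  have hσ2 : orderOf σ = 2 := by
    refine orderOf_eq_prime (RingEquiv.ext fun x => ?_) fun h => ?_
    · rw [pow_two]; exact hc.invol x
    · obtain ⟨a, ha⟩ := hc.exists_not_fixed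
      exact ha (show σ a = a by rw [h]; rfl)
  obtain ⟨h2, hcard⟩ := AutPSL.card_fixField (p := p) (f := N) (r := 2) hN σ hσ2 (by norm_num)
  have hq : q = p ^ ((N : ℕ) / 2) := by
    refine Nat.pow_left_injective two_ne_zero ?_
    show q ^ 2 = (p ^ ((N : ℕ) / 2)) ^ 2
    rw [← pow_mul, Nat.div_mul_cancel h2, ← hN, hF.out]
  obtain ⟨ι, hι⟩ := exists_embedding (F₀ := F₀) σ (by rw [hcard, hF₀, hq])
  exact ⟨σ, ι, ⟨hθ, hι, hs.symm ▸ hc⟩⟩

section

variable {σ : F ≃+* F} {ι : F₀ →+* F}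

local notation "gσ" => Matrix.GeneralLinearGroup.map (n := Fin n) (RingEquiv.toRingHom σ)
local notation "gι" => Matrix.GeneralLinearGroup.map (n := Fin n) ι
local notation "θ" => RingEquiv.toRingHom σ

theorem orderOf_sigma (D : Data q σ ι) : orderOf σ = 2 := by
  refine orderOf_eq_prime (RingEquiv.ext fun x => ?_) fun h => ?_
  · rw [pow_two]; exact D.conj.invol x
  · obtain ⟨a, ha⟩ := D.conj.exists_not_fixed
    exact ha (show σ a = a by rw [h]; rfl)

theorem sigma_invol (D : Data q σ ι) (x : F) : σ (σ x) = x := D.conj.invol x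

theorem sigma_iota (D : Data q σ ι) (x : F₀) : σ (ι x) = ι x := (D.fix _).2 ⟨x, rfl⟩

theorem gσ_gι (D : Data q σ ι) (X : GL (Fin n) F₀) : gσ (gι X) = gι X :=
  Units.ext (Matrix.ext fun _ _ => sigma_iota D _)

theorem adj_gι (D : Data q σ ι) (X : GL (Fin n) F₀) :
    ((adjGL θ (gι X) : Gln) : Matrix (Fin n) (Fin n) F) = ((X : M₀)ᵀ).map ι :=
  Matrix.ext fun _ _ => sigma_iota D _

theorem adj_scl (c : Fˣ) : adjGL θ (AutPSL.scl c : Gln) = AutPSL.scl (Units.map (θ : F →* F) c) := by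
  refine Units.ext (Matrix.ext fun i j => ?_)
  show σ (((AutPSL.scl c : Gln) : Matrix (Fin n) (Fin n) F) j i) = _
  rw [AutPSL.scl_coe, AutPSL.scl_coe]
  by_cases h : i = j
  · subst h; simp
  · simp [Matrix.one_apply_ne h, Matrix.one_apply_ne (Ne.symm h)]

theorem scal_mul_val (A : Gln) (c : Fˣ) :
    ((AutPSL.scl c * A : Gln) : Matrix (Fin n) (Fin n) F) = (c : F) • (A : Matrix (Fin n) (Fin n) F) := by
  rw [Units.val_mul, AutPSL.scl_coe, Matrix.smul_mul, Matrix.one_mul]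

theorem mid (d : Fˣ) (G H : Gln) : G * (AutPSL.scl d * H) = AutPSL.scl d * (G * H) := by
  rw [← mul_assoc, ← AutPSL.scl_comm, mul_assoc]

theorem mul_scl_mul (a b : Fˣ) (A B : Gln) :
    AutPSL.scl a * A * (AutPSL.scl b * B) = AutPSL.scl (a * b) * (A * B) := by
  rw [mid, mul_assoc (AutPSL.scl a), ← mul_assoc (AutPSL.scl b), ← AutPSL.scl_mul, mul_comm b a]

theorem mul_scl (a b : Fˣ) (A : Gln) : AutPSL.scl a * A * AutPSL.scl b = AutPSL.scl (a * b) * A := by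
  rw [mul_assoc, ← AutPSL.scl_comm, ← mul_assoc, ← AutPSL.scl_mul]

theorem inv_scl_mul (a : Fˣ) (A : Gln) : (AutPSL.scl a * A)⁻¹ = AutPSL.scl a⁻¹ * A⁻¹ := by
  rw [AutPSL.scl_comm, _root_.mul_inv_rev]
  congr 1

theorem scl_injective (hn : 1 ≤ n) : Function.Injective (AutPSL.scl : Fˣ → Gln) := fun c d h => Units.ext (by
  have := congrArg (fun g : Gln => (g : Matrix (Fin n) (Fin n) F) ⟨0, hn⟩ ⟨0, hn⟩) h
  simpa [AutPSL.scl_coe] using this)

theorem semiAut_eq_of_scl (hn : 1 ≤ n) {g g' : GUn} (t : Fˣ) (h : (g : Gln) = AutPSL.scl t * (g' : Gln))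
    (τ : F ≃+* F) : semiAut g τ = semiAut g' τ := by
  obtain ⟨u, hu⟩ := exists_sclU (A := g * g'⁻¹) (c := (t : F)) hn (by
    show (((g : Gln) * (g' : Gln)⁻¹ : Gln) : Matrix (Fin n) (Fin n) F) = _
    rw [h, mul_inv_cancel_right, AutPSL.scl_coe])
  rw [show g = sclU u * g' by rw [← hu, inv_mul_cancel_right], semiAut_sclU_mul]

theorem mem_GU (D : Data q σ ι) {g : Gln} : g ∈ GUn ↔ adjGL θ g * g = 1 := mem_GU_iff_adj hF.out D.pow D.conj

variable (σ ι) in
/-- A form `M` over the subfield attached to an automorphism. -/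
structure Rep (γ : MulAut (Cfsg.PSU n F q)) (M : GL (Fin n) F₀) where
  A : GUn
  h : Gln
  a : Fˣ
  δ : Fˣ
  ε : F₀
  eq : γ = semiAut A σ
  hA : (A : Gln) = AutPSL.scl a * (h * (gσ h)⁻¹)
  hM : gι M = AutPSL.scl δ * (adjGL θ h * h)
  hδ : σ δ = ι ε * δ
  hε : ε = 1 ∨ ε = -1
  hsym : (M : M₀)ᵀ = ε • (M : M₀)

variable {γ γ' : MulAut (Cfsg.PSU n F q)} {M M' : GL (Fin n) F₀}

/-- The form relation for an element `R'.h * (scl μ * X) * R.h⁻¹`. -/
theorem rep_form (R : Rep σ ι γ M) (R' : Rep σ ι γ' M') (X : GL (Fin n) F₀) (μ : Fˣ) :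
    adjGL θ (R'.h * (AutPSL.scl μ * gι X) * R.h⁻¹) * (R'.h * (AutPSL.scl μ * gι X) * R.h⁻¹) =
      (adjGL θ R.h)⁻¹ * (AutPSL.scl (Units.map (θ : F →* F) μ * μ * R'.δ⁻¹) *
        (adjGL θ (gι X) * gι M' * gι X)) * R.h⁻¹ := by
    have hH' : adjGL θ R'.h * R'.h = AutPSL.scl R'.δ⁻¹ * gι M' := by
      rw [R'.hM, ← mul_assoc (AutPSL.scl R'.δ⁻¹), ← AutPSL.scl_mul, inv_mul_cancel, AutPSL.scl_one, one_mul]
    calc _ = (adjGL θ R.h)⁻¹ * (adjGL θ (gι X) * AutPSL.scl (Units.map (θ : F →* F) μ) *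
          (adjGL θ R'.h * R'.h) * AutPSL.scl μ * gι X) * R.h⁻¹ := by
          simp only [adjGL_mul, adjGL_inv, adj_scl]; group
      _ = _ := by
          rw [hH', ← AutPSL.scl_comm (Units.map _ μ), mul_scl_mul, mul_scl, mul_assoc (AutPSL.scl _),
            mul_right_comm (Units.map _ μ) R'.δ⁻¹]

theorem sim_val (D : Data q σ ι) (M M' X : GL (Fin n) F₀) (k : Fˣ) (c : F₀) (hk : (k : F) = ι c) :
    adjGL θ (gι X) * gι M' * gι X = AutPSL.scl k * gι M ↔
      (X : M₀)ᵀ * (M' : M₀) * (X : M₀) = c • (M : M₀) := by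
    rw [Units.ext_iff, Units.val_mul, Units.val_mul, adj_gι D, scal_mul_val]
    show _ * (M' : M₀).map ι * (X : M₀).map ι = (k : F) • (M : M₀).map ι ↔ _
    rw [← Matrix.map_mul, ← Matrix.map_mul, hk, ← Matrix.map_smul' ι c (M : M₀) (map_mul ι)]
    exact (Matrix.map_injective ι.injective).eq_iff

/-- The equation of conjugation in coordinates. -/
theorem rep_conj_iff (hn : 3 ≤ n) (hs : ¬ (n = 3 ∧ q = 2)) (D : Data q σ ι) (R : Rep σ ι γ M) (R' : Rep σ ι γ' M')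
    (g : GUn) : semiAut g 1 * γ * (semiAut g 1)⁻¹ = γ' ↔
      ∃ (X : GL (Fin n) F₀) (μ : Fˣ) (c : F₀ˣ), (g : Gln) = R'.h * (AutPSL.scl μ * gι X) * R.h⁻¹ ∧
        (X : M₀)ᵀ * (M' : M₀) * (X : M₀) = (c : F₀) • (M : M₀) ∧
        ι c * ((μ : F) * σ μ) * (R.δ : F) = (R'.δ : F) := by
  have hgA : semiAut g 1 * γ * (semiAut g 1)⁻¹ = semiAut (g * R.A * gMap σ g⁻¹) σ := by
    refine (congrArg (fun x => semiAut g 1 * x * (semiAut g 1)⁻¹) R.eq).trans ?_
    rw [semiAut_inv, inv_one, gMap_one, semiAut_mul, semiAut_mul, one_mul, mul_one, gMap_one]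
  refine (Eq.congr hgA R'.eq).trans ?_
  constructor
  · intro h
    obtain ⟨-, u, hu⟩ := (semi_eq_iff hn hs).1 h
    have hu' : (g : Gln) * (R.A : Gln) * (gσ (g : Gln))⁻¹ = AutPSL.scl (u : Fˣ) * (R'.A : Gln) := by
      rw [← map_inv, ← sclU_val]
      exact congrArg Subtype.val hu
    rw [R.hA, R'.hA, mid, mul_assoc (AutPSL.scl R.a), ← mul_assoc (AutPSL.scl (u : Fˣ)), ← AutPSL.scl_mul] at hu'
    obtain ⟨X, hX⟩ : ∃ X : Gln, X = R'.h⁻¹ * (g : Gln) * R.h := ⟨_, rfl⟩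
    have hK : (g : Gln) * (R.h * (gσ R.h)⁻¹) * (gσ (g : Gln))⁻¹ =
        AutPSL.scl ((u : Fˣ) * R'.a * R.a⁻¹) * (R'.h * (gσ R'.h)⁻¹) := by
      rw [mul_comm _ R.a⁻¹, AutPSL.scl_mul, mul_assoc (AutPSL.scl R.a⁻¹), ← hu', ← mul_assoc (AutPSL.scl R.a⁻¹),
        ← AutPSL.scl_mul, inv_mul_cancel, AutPSL.scl_one, one_mul]
    have h1 : X * (gσ X)⁻¹ = AutPSL.scl ((u : Fˣ) * R'.a * R.a⁻¹) := by
      calc X * (gσ X)⁻¹ = R'.h⁻¹ * ((g : Gln) * (R.h * (gσ R.h)⁻¹) * (gσ (g : Gln))⁻¹) * gσ R'.h := by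
            rw [hX, map_mul, map_mul, map_inv]; group
        _ = _ := by rw [hK, mid]; group
    set l := (u : Fˣ) * R'.a * R.a⁻¹
    have h2 : X = AutPSL.scl l * gσ X := by rw [← h1, inv_mul_cancel_right]
    have hσσ : ∀ G : Gln, gσ (gσ G) = G := fun G => Units.ext (Matrix.ext fun _ _ => sigma_invol D _)
    have hl : (l : F) * σ l = 1 := by
      have h3 := congrArg gσ h2
      rw [map_mul, hσσ, AutPSL.map_scl] at h3
      have h4 : AutPSL.scl (l * Units.map (θ : F →* F) l) = (1 : Gln) := by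
        have h5 : AutPSL.scl (l * Units.map (θ : F →* F) l) * X = X := by
          rw [AutPSL.scl_mul, mul_assoc]
          exact (congrArg (AutPSL.scl l * ·) h3).symm.trans h2.symm
        exact mul_eq_right.1 h5
      exact congrArg Units.val (scl_injective (by omega) (h4.trans AutPSL.scl_one.symm))
    obtain ⟨μ, hμ0, hμ⟩ := AutPSL.hilbert90 σ (orderOf_sigma D) (by norm_num) (l : F) (by
      simpa [AutPSL.nrm] using hl)
    set μ' := Units.mk0 μ hμ0
    have hμ' : l * Units.map (θ : F →* F) μ' = μ' := Units.ext hμ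
    have hfix : gσ (AutPSL.scl μ'⁻¹ * X) = AutPSL.scl μ'⁻¹ * X := by
      conv_rhs => rw [h2, ← mul_assoc, ← AutPSL.scl_mul]
      rw [map_mul, AutPSL.map_scl]
      congr 2
      rw [map_inv]
      calc (Units.map (θ : F →* F) μ')⁻¹ = (l * Units.map (θ : F →* F) μ')⁻¹ * l := by
            rw [_root_.mul_inv_rev, inv_mul_cancel_right]
        _ = _ := by rw [hμ']
    obtain ⟨X₀, hX₀⟩ := exists_gl_pre ι σ D.fix _ hfix
    have hg : (g : Gln) = R'.h * (AutPSL.scl μ' * gι X₀) * R.h⁻¹ := by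
      rw [hX₀, ← mul_assoc (AutPSL.scl μ'), ← AutPSL.scl_mul, mul_inv_cancel, AutPSL.scl_one, one_mul, hX]
      group
    have h5 := (mem_GU D).1 g.2
    rw [hg, rep_form R R'] at h5
    have h6 : adjGL θ (gι X₀) * gι M' * gι X₀ =
        AutPSL.scl (R'.δ * (Units.map (θ : F →* F) μ' * μ')⁻¹ * R.δ⁻¹) * gι M := by
      have h7 : AutPSL.scl (Units.map (θ : F →* F) μ' * μ' * R'.δ⁻¹) * (adjGL θ (gι X₀) * gι M' * gι X₀) =
          adjGL θ R.h * R.h := by
        calc _ = adjGL θ R.h * ((adjGL θ R.h)⁻¹ * (AutPSL.scl (Units.map (θ : F →* F) μ' * μ' * R'.δ⁻¹) *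
              (adjGL θ (gι X₀) * gι M' * gι X₀)) * R.h⁻¹) * R.h := by group
          _ = _ := by rw [h5, mul_one]
      rw [R.hM, ← h7, ← mul_assoc, ← mul_assoc, ← AutPSL.scl_mul, ← AutPSL.scl_mul]
      rw [show R'.δ * (Units.map (θ : F →* F) μ' * μ')⁻¹ * R.δ⁻¹ * R.δ * (Units.map (θ : F →* F) μ' * μ' * R'.δ⁻¹) = 1
        from Units.ext (by
          simp only [Units.val_mul, Units.val_inv_eq_inv_val, Units.val_one]
          field_simp),
        AutPSL.scl_one, one_mul]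
    obtain ⟨i, j, hij⟩ : ∃ i j, (M : M₀) i j ≠ 0 := by
      by_contra hh
      push Not at hh
      haveI : Nonempty (Fin n) := ⟨⟨0, by omega⟩⟩
      exact M.det_ne_zero (by rw [show (M : M₀) = 0 from Matrix.ext hh, Matrix.det_zero])
    set k := R'.δ * (Units.map (θ : F →* F) μ' * μ')⁻¹ * R.δ⁻¹
    have hk : (k : F) = ι (((X₀ : M₀)ᵀ * (M' : M₀) * (X₀ : M₀)) i j / (M : M₀) i j) := by
      have h8 := congrArg Units.val h6
      rw [Units.val_mul, Units.val_mul, adj_gι D, scal_mul_val] at h8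
      change _ * (M' : M₀).map ι * (X₀ : M₀).map ι = (k : F) • (M : M₀).map ι at h8
      rw [← Matrix.map_mul, ← Matrix.map_mul] at h8
      have h9 := congrFun (congrFun h8 i) j
      simp only [Matrix.map_apply, Matrix.smul_apply, smul_eq_mul] at h9
      rw [map_div₀, h9, mul_div_cancel_right₀ _ ((map_ne_zero ι).2 hij)]
    have hc0 : ((X₀ : M₀)ᵀ * (M' : M₀) * (X₀ : M₀)) i j / (M : M₀) i j ≠ 0 := fun h0 =>
      k.ne_zero (by rw [hk, h0, map_zero])
    refine ⟨X₀, μ', Units.mk0 _ hc0, hg, (sim_val D M M' X₀ k _ hk).1 h6, ?_⟩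
    rw [Units.val_mk0, ← hk]
    simp only [k, Units.val_mul, Units.val_inv_eq_inv_val, Units.coe_map, MonoidHom.coe_coe]
    have h0 : σ (μ' : F) ≠ 0 := (map_ne_zero σ).2 μ'.ne_zero
    show (R'.δ : F) * (σ (μ' : F) * μ')⁻¹ * (R.δ : F)⁻¹ * ((μ' : F) * σ μ') * R.δ = R'.δ
    field_simp
  · rintro ⟨X, μ, c, hg, hX, hμ⟩
    refine semiAut_eq_of_scl (by omega) (μ * R.a * R'.a⁻¹ * (Units.map (θ : F →* F) μ)⁻¹) ?_ σ
    show (g : Gln) * (R.A : Gln) * gσ ((g : Gln)⁻¹) = _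
    rw [map_inv, R.hA, R'.hA, hg, mid μ, mul_assoc (AutPSL.scl μ), map_mul, map_mul, map_mul, AutPSL.map_scl, map_inv,
      gσ_gι D, mul_scl_mul, inv_scl_mul, mul_scl_mul,
      ← mul_assoc (AutPSL.scl (_ * _ * _ * _)), ← AutPSL.scl_mul]
    congr 1
    · congr 1
      rw [mul_right_comm (μ * R.a * R'.a⁻¹), inv_mul_cancel_right]
      rfl
    · group

end

end CfsgLib.KnownC.GraphForms.Uni
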