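import Cfsg.Agent.Lib.KnownC.GraphForms.UniReps

/-!
# The centralisers of involutory graph automorphisms of `PSU_n`
-/

set_option autoImplicit false
set_option linter.unusedSectionVars false

namespace CfsgLib.KnownC.GraphForms.Uni

open Matrix CfsgLib.Classical CfsgLib.KnownC.GUConj CfsgLib.KnownC.AutPSU

variable {F : Type*} [Field F] [Fintype F] {n q : ℕ} [hF : Fact (Fintype.card F = q ^ 2)]
  {F₀ : Type*} [Field F₀] [Fintype F₀] {σ : F ≃+* F} {ι : F₀ →+* F}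

local notation "GUn" => Cfsg.GU n F q
local notation "PSUn" => Cfsg.PSU n F q
local notation "Gln" => GL (Fin n) F
local notation "M₀" => Matrix (Fin n) (Fin n) F₀
local notation "gσ" => Matrix.GeneralLinearGroup.map (n := Fin n) (RingEquiv.toRingHom σ)
local notation "gι" => Matrix.GeneralLinearGroup.map (n := Fin n) ι
local notation "θ" => RingEquiv.toRingHom σ

variable {γ : MulAut (Cfsg.PSU n F q)} {M : GL (Fin n) F₀}

theorem exists_elt (hn : 3 ≤ n) (hs : ¬ (n = 3 ∧ q = 2)) (D : Data q σ ι) (R : Rep σ ι γ M) (X : GL (Fin n) F₀)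
    (c : F₀ˣ) (hX : (X : M₀)ᵀ * (M : M₀) * (X : M₀) = (c : F₀) • (M : M₀)) (μ : Fˣ) (hμ : ι c * ((μ : F) * σ μ) = 1) :
    ∃ g : GUn, (g : Gln) = R.h * (AutPSL.scl μ * gι X) * R.h⁻¹ ∧ semiAut g 1 * γ = γ * semiAut g 1 := by
  have hmem : R.h * (AutPSL.scl μ * gι X) * R.h⁻¹ ∈ GUn := by
    rw [mem_GU D, rep_form R R, (sim_val D M M X (Units.map (ι : F₀ →* F) c) c rfl).2 hX, ← mul_assoc (AutPSL.scl _),
      ← AutPSL.scl_mul, show Units.map (θ : F →* F) μ * μ * R.δ⁻¹ * Units.map (ι : F₀ →* F) c = R.δ⁻¹ from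
        Units.ext (by
          simp only [Units.val_mul, Units.val_inv_eq_inv_val, Units.coe_map, MonoidHom.coe_coe]
          show σ μ * μ * (R.δ : F)⁻¹ * ι c = (R.δ : F)⁻¹
          linear_combination (R.δ : F)⁻¹ * hμ), R.hM, ← mul_assoc (AutPSL.scl _), ← AutPSL.scl_mul,
      inv_mul_cancel, AutPSL.scl_one, one_mul]
    group
  refine ⟨⟨_, hmem⟩, rfl, mul_inv_eq_iff_eq_mul.1 ((rep_conj_iff hn hs D R R ⟨_, hmem⟩).2 ⟨X, μ, c, rfl, hX, ?_⟩)⟩
  rw [hμ, one_mul]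

theorem exists_of_commute (hn : 3 ≤ n) (hs : ¬ (n = 3 ∧ q = 2)) (D : Data q σ ι) (R : Rep σ ι γ M) (g : GUn)
    (h : semiAut g 1 * γ = γ * semiAut g 1) :
    ∃ (X : GL (Fin n) F₀) (μ : Fˣ) (c : F₀ˣ), (g : Gln) = R.h * (AutPSL.scl μ * gι X) * R.h⁻¹ ∧
      (X : M₀)ᵀ * (M : M₀) * (X : M₀) = (c : F₀) • (M : M₀) ∧ ι c * ((μ : F) * σ μ) = 1 := by
  obtain ⟨X, μ, c, h1, h2, h3⟩ := (rep_conj_iff hn hs D R R g).1 (mul_inv_eq_iff_eq_mul.2 h)
  exact ⟨X, μ, c, h1, h2, mul_right_cancel₀ R.δ.ne_zero (by rw [h3, one_mul])⟩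

theorem exists_mu (D : Data q σ ι) (c : F₀ˣ) : ∃ μ : Fˣ, ι c * ((μ : F) * σ μ) = 1 := by
  obtain ⟨μ, hμ⟩ := exists_norm D (x := (ι c)⁻¹) (by rw [map_inv₀, sigma_iota D])
  have hc : ι (c : F₀) ≠ 0 := (map_ne_zero ι).2 c.ne_zero
  have hμ0 : μ ≠ 0 := fun h0 => inv_ne_zero hc (by rw [← hμ, h0, zero_mul])
  exact ⟨Units.mk0 μ hμ0, by show ι c * (μ * σ μ) = 1; rw [hμ, mul_inv_cancel₀ hc]⟩

theorem map_scalar (d : F₀ˣ) : gι (AutPSL.scl d) = AutPSL.scl (Units.map (ι : F₀ →* F) d) := Units.ext (by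
  show ((AutPSL.scl d : GL (Fin n) F₀) : M₀).map ι = _
  rw [AutPSL.scl_coe, AutPSL.scl_coe, Matrix.map_smul' ι _ _ (map_mul ι), Matrix.map_one _ (map_zero ι) (map_one ι)]
  rfl)

theorem centralizer (hn : 3 ≤ n) (hs : ¬ (n = 3 ∧ q = 2)) (D : Data q σ ι) (R : Rep σ ι γ M) :
    Nonempty (↥(Cfsg.inndiagPSU n F q ⊓ Subgroup.centralizer {γ}) ≃* Cfsg.projQuot (Sim (M : M₀))) := by
  have hex : ∀ X : Sim (M : M₀), ∃ (g : GUn) (μ : Fˣ),
      (g : Gln) = R.h * (AutPSL.scl μ * gι X.1) * R.h⁻¹ ∧ semiAut g 1 * γ = γ * semiAut g 1 := fun X => by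
    obtain ⟨c, hc⟩ := X.2
    obtain ⟨μ, hμ⟩ := exists_mu D c
    obtain ⟨g, h1, h2⟩ := exists_elt hn hs D R X.1 c hc μ hμ
    exact ⟨g, μ, h1, h2⟩
  choose g μ hg hcomm using hex
  let Φ : Sim (M : M₀) →* ↥(Cfsg.inndiagPSU n F q ⊓ Subgroup.centralizer {γ}) :=
    MonoidHom.codRestrict (MonoidHom.mk' (fun X : Sim (M : M₀) => semiAut (g X) 1) (fun X Y => by
      rw [semiAut_mul, gMap_one, one_mul]
      refine semiAut_eq_of_scl (g := g (X * Y)) (by omega) (μ (X * Y) * (μ X * μ Y)⁻¹) ?_ 1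
      show (g (X * Y) : Gln) = _ * ((g X : Gln) * (g Y : Gln))
      rw [hg, hg, hg, Subgroup.coe_mul, map_mul, mid (μ (X * Y)) R.h, mid (μ X) R.h, mid (μ Y) R.h,
        mul_assoc (AutPSL.scl (μ (X * Y))), mul_assoc (AutPSL.scl (μ X)), mul_assoc (AutPSL.scl (μ Y)), mul_scl_mul,
        ← mul_assoc (AutPSL.scl (μ (X * Y) * _)), ← AutPSL.scl_mul, inv_mul_cancel_right]
      congr 1
      group)) _ (fun X => ⟨(inndiag_iff_mem _).2 ⟨_, rfl⟩, Subgroup.mem_centralizer_singleton_iff.2 (hcomm X)⟩)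
  have hΦ : Function.Surjective Φ := by
    rintro ⟨y, hy1, hy2⟩
    obtain ⟨g', rfl⟩ := (inndiag_iff_mem y).1 hy1
    obtain ⟨X, μ', c, h1, h2, -⟩ := exists_of_commute hn hs D R g' (Subgroup.mem_centralizer_singleton_iff.1 hy2)
    refine ⟨⟨X, c, h2⟩, Subtype.ext ?_⟩
    refine semiAut_eq_of_scl (by omega) (μ ⟨X, c, h2⟩ * μ'⁻¹) ?_ 1
    rw [hg, h1, mid, mid μ', mul_assoc (AutPSL.scl (μ ⟨X, c, h2⟩)), mul_assoc (AutPSL.scl μ'), ← mul_assoc (AutPSL.scl (_ * _)),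
      ← AutPSL.scl_mul, inv_mul_cancel_right]
  have hker : Φ.ker = (Cfsg.Geo.scalars (Fin n) F₀).subgroupOf (Sim (M : M₀)) := by
    ext X
    rw [MonoidHom.mem_ker, Subtype.ext_iff, Subgroup.mem_subgroupOf, Cfsg.Geo.mem_scalars_iff]
    show semiAut (g X) 1 = 1 ↔ _
    constructor
    · intro h
      obtain ⟨-, c, hc⟩ := semi_eq_one hn hs h
      have hgc : (g X : Gln) = AutPSL.scl (Units.mk0 c (fun h0 => by
          haveI : Nonempty (Fin n) := ⟨⟨0, by omega⟩⟩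
          exact umat_det_ne (g X) (by rw [hc, h0, zero_smul, Matrix.det_zero]))) := Units.ext (by
        rw [AutPSL.scl_coe]; exact hc)
      rw [hg, mul_inv_eq_iff_eq_mul, AutPSL.scl_comm _ R.h, mul_right_inj, ← eq_inv_mul_iff_mul_eq,
        ← scl_inv_inv (μ X), inv_inv, ← AutPSL.scl_mul] at hgc
      set t := (μ X)⁻¹ * _
      have hij : ∀ i j, ι ((X.1 : M₀) i j) = (t : F) * (1 : Matrix (Fin n) (Fin n) F) i j := fun i j => by
        have := congrArg (fun G : Gln => (G : Matrix (Fin n) (Fin n) F) i j) hgc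
        simpa [AutPSL.scl_coe] using this
      have h0 : ι ((X.1 : M₀) ⟨0, by omega⟩ ⟨0, by omega⟩) = t := by rw [hij]; simp
      refine ⟨Units.mk0 ((X.1 : M₀) ⟨0, by omega⟩ ⟨0, by omega⟩) (fun e => t.ne_zero (by rw [← h0, e, map_zero])), ?_⟩
      ext i j
      apply ι.injective
      rw [hij, Matrix.smul_apply, smul_eq_mul, map_mul, Units.val_mk0, h0]
      by_cases h : i = j
      · subst h; simp
      · simp [Matrix.one_apply_ne h]
    · rintro ⟨c, hc⟩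
      have hX : X.1 = AutPSL.scl c := Units.ext (by rw [hc, AutPSL.scl_coe])
      rw [show semiAut (g X) 1 = semiAut (1 : GUn) 1 from semiAut_eq_of_scl (by omega)
        (μ X * Units.map (ι : F₀ →* F) c) (by
          rw [hg, hX, map_scalar, ← AutPSL.scl_mul, ← AutPSL.scl_comm, mul_inv_cancel_right, OneMemClass.coe_one,
            mul_one]) 1, semiAut_one]
  exact ⟨((QuotientGroup.quotientMulEquivOfEq hker.symm).trans (QuotientGroup.quotientKerEquivOfSurjective Φ hΦ)).symm⟩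

theorem centralizer_similar {κ : Type} [Fintype κ] [DecidableEq κ] (hn : 3 ≤ n) (hs : ¬ (n = 3 ∧ q = 2))
    (D : Data q σ ι) (R : Rep σ ι γ M) {N : Matrix κ κ F₀} (h : Similar (M : M₀) N) {H : Subgroup (GL κ F₀)}
    (hH : H = Sim N) :
    Nonempty (↥(Cfsg.inndiagPSU n F q ⊓ Subgroup.centralizer {γ}) ≃* Cfsg.projQuot H) := by
  subst hH
  exact ⟨(centralizer hn hs D R).some.trans h.projSim.some⟩

/-- The inner-diagonal map. -/
noncomputable def pi : GUn →* MulAut PSUn := MonoidHom.mk' (fun A => semiAut A 1) (fun A B => by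
  rw [semiAut_mul, gMap_one, one_mul])

/-- The determinants of the centraliser. -/
noncomputable def detT (x : MulAut (Cfsg.PSU n F q)) : Subgroup (NOne F q) :=
  ((Subgroup.centralizer {x}).comap (pi (F := F) (n := n) (q := q))).map detU

theorem pow_le_detT (x : MulAut (Cfsg.PSU n F q)) : (powMonoidHom n : NOne F q →* NOne F q).range ≤ detT x := by
  rintro _ ⟨u, rfl⟩
  refine ⟨sclU u, ?_, detU_sclU u⟩
  show semiAut (sclU u : GUn) 1 ∈ Subgroup.centralizer {x}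
  rw [semiAut_sclU]
  exact one_mem _

theorem split_eq (hn : 3 ≤ n) (hs : ¬ (n = 3 ∧ q = 2)) (x : MulAut (Cfsg.PSU n F q)) :
    Cfsg.splitClassCount (Cfsg.inndiagPSU n F q) (Cfsg.Inn PSUn) x = (detT x).index := by
  set P := (powMonoidHom n : NOne F q →* NOne F q).range with hP
  let D : GUn →* NOne F q ⧸ P := (QuotientGroup.mk' P).comp detU
  have hrange : (pi : GUn →* MulAut PSUn).range = Cfsg.inndiagPSU n F q := by
    ext β
    rw [inndiag_iff_mem]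
    exact ⟨fun ⟨A, h⟩ => ⟨A, h.symm⟩, fun ⟨A, h⟩ => ⟨A, h.symm⟩⟩
  have hD : ∀ A, pi A ∈ Cfsg.Inn PSUn ↔ D A = 1 := fun A =>
    (mem_inn_iff hn hs A).trans (QuotientGroup.eq_one_iff (N := P) (detU A)).symm
  have hDs : Function.Surjective D := (QuotientGroup.mk'_surjective P).comp (detU_surjective (by omega))
  have h5 := SplitGen.split_count (Q := NOne F q ⧸ P) (pi : GUn →* MulAut PSUn) D
  rw [← hrange, h5 _ hDs hD (hrange ▸ inn_le_inndiag)]
  rw [show D = (QuotientGroup.mk' P).comp detU from rfl, ← Subgroup.map_map, Subgroup.index_map, QuotientGroup.ker_mk',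
    MonoidHom.range_eq_top.2 (QuotientGroup.mk'_surjective P), Subgroup.index_top, mul_one]
  exact congrArg Subgroup.index (sup_eq_left.2 (pow_le_detT x))

theorem mem_detT (hn : 3 ≤ n) (hs : ¬ (n = 3 ∧ q = 2)) (D : Data q σ ι) (R : Rep σ ι γ M) {d : NOne F q}
    (hd : d ∈ detT γ) : ∃ (X : GL (Fin n) F₀) (μ : Fˣ) (c : F₀ˣ),
      (X : M₀)ᵀ * (M : M₀) * (X : M₀) = (c : F₀) • (M : M₀) ∧ ι c * ((μ : F) * σ μ) = 1 ∧
      ((d : Fˣ) : F) = (μ : F) ^ n * ι (X : M₀).det := by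
  obtain ⟨g, hg, rfl⟩ := hd
  obtain ⟨X, μ, c, h1, h2, h3⟩ := exists_of_commute hn hs D R g (Subgroup.mem_centralizer_singleton_iff.1 hg)
  refine ⟨X, μ, c, h2, h3, ?_⟩
  rw [detU_val]
  show ((g : Gln) : Matrix (Fin n) (Fin n) F).det = _
  rw [h1, Units.val_mul, Units.val_mul, Matrix.det_units_conj, scal_mul_val, Matrix.det_smul, Fintype.card_fin]
  exact congrArg _ (ι.map_det _).symm

theorem mem_detT_of (hn : 3 ≤ n) (hs : ¬ (n = 3 ∧ q = 2)) (D : Data q σ ι) (R : Rep σ ι γ M) (X : GL (Fin n) F₀)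
    (μ : Fˣ) (c : F₀ˣ) (hX : (X : M₀)ᵀ * (M : M₀) * (X : M₀) = (c : F₀) • (M : M₀))
    (hμ : ι c * ((μ : F) * σ μ) = 1) {d : NOne F q} (hd : ((d : Fˣ) : F) = (μ : F) ^ n * ι (X : M₀).det) :
    d ∈ detT γ := by
  obtain ⟨g, h1, h2⟩ := exists_elt hn hs D R X c hX μ hμ
  refine ⟨g, Subgroup.mem_centralizer_singleton_iff.2 h2, Subtype.ext (Units.ext ?_)⟩
  rw [detU_val, hd]
  show ((g : Gln) : Matrix (Fin n) (Fin n) F).det = _
  rw [h1, Units.val_mul, Units.val_mul, Matrix.det_units_conj, scal_mul_val, Matrix.det_smul, Fintype.card_fin]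
  exact congrArg _ (ι.map_det _).symm

end CfsgLib.KnownC.GraphForms.Uni
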