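import Cfsg.Agent.Lib.KnownC.GraphForms.Uni

/-!
# Forms and involutory graph automorphisms of `PSU_n`
-/

set_option autoImplicit false
set_option linter.unusedSectionVars false

namespace CfsgLib.KnownC.GraphForms.Uni

open Matrix CfsgLib.Classical CfsgLib.KnownC.GUConj CfsgLib.KnownC.AutPSU

variable {F : Type*} [Field F] [Fintype F] {n q : ℕ} [hF : Fact (Fintype.card F = q ^ 2)]
  {F₀ : Type*} [Field F₀] [Fintype F₀] {σ : F ≃+* F} {ι : F₀ →+* F}

local notation "GUn" => Cfsg.GU n F q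
local notation "PSUn" => Cfsg.PSU n F q
local notation "Gln" => GL (Fin n) F
local notation "M₀" => Matrix (Fin n) (Fin n) F₀
local notation "gσ" => Matrix.GeneralLinearGroup.map (n := Fin n) (RingEquiv.toRingHom σ)
local notation "gι" => Matrix.GeneralLinearGroup.map (n := Fin n) ι
local notation "θ" => RingEquiv.toRingHom σ

theorem gσ_gσ (D : Data q σ ι) (G : Gln) : gσ (gσ G) = G :=
  Units.ext (Matrix.ext fun _ _ => sigma_invol D _)

theorem gσ_adj (G : Gln) : gσ (adjGL θ G) = adjGL θ (gσ G) := Units.ext rfl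

theorem scl_inv_inv (a : Fˣ) : (AutPSL.scl a⁻¹ : Gln)⁻¹ = AutPSL.scl a :=
  inv_eq_of_mul_eq_one_right (by rw [← AutPSL.scl_mul, inv_mul_cancel, AutPSL.scl_one])

theorem exists_delta (D : Data q σ ι) {c : F} (hc : c * c = 1) (hcfix : σ c = c) :
    ∃ δ : Fˣ, σ δ = c * δ := by
  obtain ⟨δ, hδ0, hδ⟩ := AutPSL.hilbert90 σ (orderOf_sigma D) (by norm_num) c (by simp [AutPSL.nrm, hcfix, hc])
  refine ⟨Units.mk0 δ hδ0, ?_⟩
  show σ δ = c * δ
  conv_rhs => rw [← hδ, ← mul_assoc, hc, one_mul]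

theorem exists_norm (D : Data q σ ι) {x : F} (hx : σ x = x) : ∃ a, a * σ a = x := D.conj.exists_norm_eq hx

/-- Every involutory graph automorphism has a form. -/
theorem exists_rep (hn : 3 ≤ n) (hs : ¬ (n = 3 ∧ q = 2)) (D : Data q σ ι) {γ : MulAut (Cfsg.PSU n F q)}
    (hγ : Cfsg.IsGraphAutClassPSU γ) (h2 : orderOf γ = 2) : ∃ M : GL (Fin n) F₀, Nonempty (Rep σ ι γ M) := by
  obtain ⟨-, d, φ, τ, hev, hd, hφ, hγe⟩ := hγ
  obtain ⟨A, rfl⟩ := (innDiag_iff d).1 hd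
  rw [(stdField_iff τ φ).1 hφ, semiAut_refl_mul] at hγe
  have hsq : semiAut A τ ^ 2 = 1 := by rw [← hγe, ← h2, pow_orderOf_eq_one]
  have hτ2 : τ ^ 2 = 1 := by
    have h := hsq
    rw [semiAut_pow] at h
    exact ((semi_eq_iff hn hs).1 (h.trans semiAut_one.symm)).1
  have hτo : orderOf τ = 2 := by
    rcases (Nat.dvd_prime Nat.prime_two).1 (orderOf_dvd_of_pow_eq_one hτ2) with h | h
    · rw [h] at hev; exact absurd hev (by decide)
    · exact h
  obtain rfl : τ = σ := RingEquiv.ext fun x => by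
    obtain ⟨θ', hθ', hc'⟩ := exists_frob hF.out
    rw [AutPSU.Balance.frob_eq hθ' hc' τ hτo x, D.pow]
  obtain ⟨c, hc, hcfix⟩ := semiPow_scalar hn hs A τ hτo hsq
  set e : F := ((c : Fˣ) : F) with he
  have hee : e * e = 1 := by
    have h := nOne_mul c.2
    rwa [← D.pow, hcfix] at h
  obtain ⟨a, ha⟩ := exists_norm D hcfix
  have ha0 : a ≠ 0 := fun h => by rw [← ha, h, zero_mul, zero_mul] at hee; exact zero_ne_one hee
  set a' := Units.mk0 a ha0
  set A' : Gln := AutPSL.scl a'⁻¹ * (A : Gln) with hA'def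
  have hA' : AutPSL.semiPow A' τ 2 = 1 := by
    rw [hA'def, AutPSL.semiPow_scl_mul a'⁻¹ _ τ 2 ((c : Fˣ)⁻¹) (by
      simp only [AutPSL.nrm, Units.val_inv_eq_inv_val, a', Units.val_mk0, map_inv₀, mul_one, map_mul, map_one]
      rw [← he, ← ha, mul_inv]), ← semiPow_val, hc, sclU_val, ← AutPSL.scl_mul, inv_mul_cancel, AutPSL.scl_one]
  obtain ⟨h, hh⟩ := AutPSL.exists_descent A' τ hτo (by norm_num) hA'
  have hσh : Matrix.GeneralLinearGroup.map τ.toRingHom h = A'⁻¹ * h := eq_inv_mul_of_mul_eq hh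
  have hAA : (A : Gln) * adjGL τ.toRingHom (A : Gln) = 1 :=
    mul_eq_one_iff_eq_inv.2 (eq_inv_of_mul_eq_one_left ((mem_GU D).1 A.2) ▸ (inv_inv _).symm)
  have hH : Matrix.GeneralLinearGroup.map τ.toRingHom (adjGL τ.toRingHom h * h) =
      AutPSL.scl (c : Fˣ) * (adjGL τ.toRingHom h * h) := by
    rw [map_mul, gσ_adj, hσh, adjGL_mul, adjGL_inv, mul_assoc, ← mul_assoc (adjGL τ.toRingHom A')⁻¹, ← _root_.mul_inv_rev]
    have h1 : A' * adjGL τ.toRingHom A' = AutPSL.scl ((c : Fˣ)⁻¹) := by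
      rw [hA'def, adjGL_mul, adj_scl, ← AutPSL.scl_comm _ (adjGL τ.toRingHom (A : Gln)), mul_scl_mul, hAA, mul_one]
      congr 1
      refine Units.ext ?_
      simp only [Units.val_mul, Units.val_inv_eq_inv_val, Units.coe_map, a', Units.val_mk0, MonoidHom.coe_coe]
      show a⁻¹ * τ a⁻¹ = e⁻¹
      rw [map_inv₀, ← ha, mul_inv]
    rw [h1, scl_inv_inv, mid]
  obtain ⟨δ, hδ⟩ := exists_delta D hee hcfix
  have hfix : Matrix.GeneralLinearGroup.map τ.toRingHom (AutPSL.scl δ * (adjGL τ.toRingHom h * h)) =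
      AutPSL.scl δ * (adjGL τ.toRingHom h * h) := by
    rw [map_mul, hH, AutPSL.map_scl, ← mul_assoc, ← AutPSL.scl_mul]
    congr 2
    refine Units.ext ?_
    show τ δ * e = δ
    rw [hδ, mul_comm e, mul_assoc, hee, mul_one]
  obtain ⟨M, hM⟩ := exists_gl_pre ι τ D.fix _ hfix
  obtain ⟨ε, hε, hεe⟩ : ∃ ε : F₀, (ε = 1 ∨ ε = -1) ∧ ι ε = e := by
    rcases mul_self_eq_one_iff.1 hee with h | h
    · exact ⟨1, Or.inl rfl, by rw [map_one, h]⟩
    · exact ⟨-1, Or.inr rfl, by rw [map_neg, map_one, h]⟩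
  have hadj : adjGL τ.toRingHom (Matrix.GeneralLinearGroup.map ι M) =
      AutPSL.scl (c : Fˣ) * Matrix.GeneralLinearGroup.map ι M := by
    rw [hM, adjGL_mul, adjGL_mul, adjGL_adjGL D.conj, adj_scl, ← AutPSL.scl_comm,
      ← mul_assoc (AutPSL.scl (c : Fˣ)), ← AutPSL.scl_mul]
    congr 2
    exact Units.ext hδ
  refine ⟨M, ⟨A, h, a', δ, ε, hγe, ?_, hM, by rw [hεe, hδ], hε, ?_⟩⟩
  · rw [hσh, _root_.mul_inv_rev, inv_inv, mul_inv_cancel_left, hA'def, ← mul_assoc, ← AutPSL.scl_mul, mul_inv_cancel,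
      AutPSL.scl_one, one_mul]
  · refine Matrix.map_injective ι.injective ?_
    show ((M : M₀)ᵀ).map ι = (ε • (M : M₀)).map ι
    rw [← adj_gι D, hadj, scal_mul_val, Matrix.map_smul' ι ε (M : M₀) (map_mul ι), hεe]
    rfl

/-- Every form comes from a graph automorphism. -/
theorem rep_of_form (hn : 1 ≤ n) (D : Data q σ ι) (M : GL (Fin n) F₀) {ε : F₀} (hε : ε = 1 ∨ ε = -1)
    (hsym : (M : M₀)ᵀ = ε • (M : M₀)) : ∃ γ : MulAut (Cfsg.PSU n F q), Nonempty (Rep σ ι γ M) := by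
  have hεε : ε * ε = 1 := by rcases hε with rfl | rfl <;> ring
  have hee : ι ε * ι ε = 1 := by rw [← map_mul, hεε, map_one]
  obtain ⟨δ, hδ⟩ := exists_delta D hee (sigma_iota D ε)
  obtain ⟨a, ha⟩ := exists_norm D (sigma_iota D ε)
  have ha0 : a ≠ 0 := fun h => by rw [← ha, h, zero_mul, zero_mul] at hee; exact zero_ne_one hee
  let e : Fˣ := Units.mk0 (ι ε) (fun h => by rw [h, zero_mul] at hee; exact zero_ne_one hee)
  set H : Gln := AutPSL.scl δ⁻¹ * gι M with hH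
  have hadj : adjGL θ (gι M) = AutPSL.scl e * gι M := Units.ext (by
    rw [adj_gι D, hsym, scal_mul_val, Matrix.map_smul' ι ε (M : M₀) (map_mul ι)]
    rfl)
  have hherm : adjGL θ H = H := by
    rw [hH, adjGL_mul, adj_scl, hadj, ← AutPSL.scl_comm, ← mul_assoc, ← AutPSL.scl_mul]
    congr 2
    refine Units.ext ?_
    show σ (((δ⁻¹ : Fˣ) : F)) * ι ε = ((δ⁻¹ : Fˣ) : F)
    rw [Units.val_inv_eq_inv_val, map_inv₀, hδ, mul_inv, mul_right_comm, inv_mul_cancel₀, one_mul]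
    exact fun h => by rw [h, zero_mul] at hee; exact zero_ne_one hee
  obtain ⟨v, hv, -⟩ := exists_sqrt D.conj H hherm
  set a' := Units.mk0 a ha0
  set A₀ : Gln := AutPSL.scl a' * (v * (gσ v)⁻¹) with hA₀
  have hσH : gσ H = AutPSL.scl e * H := by
    rw [hH, map_mul, AutPSL.map_scl, gσ_gι D, ← mul_assoc, ← AutPSL.scl_mul]
    congr 2
    refine Units.ext ?_
    show σ (((δ⁻¹ : Fˣ) : F)) = ι ε * ((δ⁻¹ : Fˣ) : F)
    rw [Units.val_inv_eq_inv_val, map_inv₀, hδ, mul_inv, inv_eq_of_mul_eq_one_left hee]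
  have hmem : A₀ ∈ GUn := by
    rw [mem_GU D, hA₀, adjGL_mul, adjGL_mul, adj_scl, adjGL_inv, ← AutPSL.scl_comm, mul_scl_mul]
    have h1 : adjGL θ v * v = AutPSL.scl e * (adjGL θ (gσ v) * gσ v) := by
      rw [← gσ_adj, ← map_mul, hv, hσH, ← mul_assoc, ← AutPSL.scl_mul, show e * e = 1 from Units.ext hee,
        AutPSL.scl_one, one_mul]
    rw [mul_assoc _ (adjGL θ v), ← mul_assoc (adjGL θ v), h1, mul_assoc (AutPSL.scl e), mid, mul_inv_cancel_right,
      inv_mul_cancel, mul_one, ← AutPSL.scl_mul, ← AutPSL.scl_one]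
    congr 1
    refine Units.ext ?_
    show σ a * a * ι ε = 1
    rw [mul_comm (σ a), ha, hee]
  refine ⟨semiAut ⟨A₀, hmem⟩ σ, ⟨⟨A₀, hmem⟩, v, a', δ, ε, rfl, rfl, ?_, hδ, hε, hsym⟩⟩
  rw [hv, hH, ← mul_assoc, ← AutPSL.scl_mul, mul_inv_cancel, AutPSL.scl_one, one_mul]

variable {γ γ' : MulAut (Cfsg.PSU n F q)} {M M' : GL (Fin n) F₀}

theorem rep_class (hn : 3 ≤ n) (hs : ¬ (n = 3 ∧ q = 2)) (D : Data q σ ι) (R : Rep σ ι γ M) :
    Cfsg.IsGraphAutClassPSU γ ∧ orderOf γ = 2 := by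
  refine ⟨⟨hn, _, _, σ, by rw [orderOf_sigma D]; exact even_two, (innDiag_iff _).2 ⟨R.A, rfl⟩,
    (stdField_iff σ _).2 rfl, R.eq.trans (semiAut_refl_mul R.A σ).symm⟩, orderOf_eq_prime ?_ fun h => ?_⟩
  · have e : γ ^ 2 = semiAut (R.A * gMap σ R.A) (σ * σ) := by
      rw [pow_two, ← semiAut_mul]; exact congrArg₂ (· * ·) R.eq R.eq
    rw [e, ← pow_two σ, ← orderOf_sigma D, pow_orderOf_eq_one, ← semiAut_one]
    refine semiAut_eq_of_scl (g' := 1) (by omega) (R.a * Units.map (θ : F →* F) R.a) ?_ 1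
    show (R.A : Gln) * gσ (R.A : Gln) = _ * 1
    rw [R.hA, map_mul, map_mul, map_inv, gσ_gσ D, AutPSL.map_scl, mul_scl_mul, mul_one]
    rw [show R.h * (gσ R.h)⁻¹ * (gσ R.h * R.h⁻¹) = 1 by group, mul_one]
    rfl
  · have h' : semiAut R.A σ = 1 := R.eq.symm.trans h
    have := orderOf_sigma D
    rw [(semi_eq_one hn hs h').1, orderOf_one] at this
    norm_num at this

/-- Conjugacy of involutory graph automorphisms is similarity of their forms. -/
theorem isConj_iff (hn : 3 ≤ n) (hs : ¬ (n = 3 ∧ q = 2)) (D : Data q σ ι) (R : Rep σ ι γ M) (R' : Rep σ ι γ' M') :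
    Cfsg.IsConjUnder (Cfsg.inndiagPSU n F q) γ γ' ↔ Similar (M : M₀) (M' : M₀) := by
  constructor
  · rintro ⟨_, hy, e⟩
    obtain ⟨g, rfl⟩ := (inndiag_iff_mem _).1 hy
    obtain ⟨X, μ, c, -, hX, -⟩ := (rep_conj_iff hn hs D R R' g).1 e.symm
    exact (similar_of_mem X c hX).symm
  · intro h
    obtain ⟨X, c, hX⟩ := h.symm.exists_gl
    obtain ⟨i, j, hij⟩ : ∃ i j, (M' : M₀) i j ≠ 0 := by
      by_contra hh
      push Not at hh
      haveI : Nonempty (Fin n) := ⟨⟨0, by omega⟩⟩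
      exact M'.det_ne_zero (by rw [show (M' : M₀) = 0 from Matrix.ext hh, Matrix.det_zero])
    have hεε : R.ε = R'.ε := by
      have h1 := congrFun (congrFun ((h.transpose_smul R.hsym).symm.trans R'.hsym) i) j
      simp only [Matrix.smul_apply, smul_eq_mul] at h1
      exact mul_right_cancel₀ hij h1
    set x : F := (R'.δ : F) / (ι c * R.δ) with hx
    have hxfix : σ x = x := by
      have hne : ι R.ε ≠ 0 := (map_ne_zero ι).2 (by rcases R.hε with h | h <;> simp [h])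
      rw [hx, map_div₀, map_mul, sigma_iota D, R.hδ, R'.hδ, ← hεε]
      field_simp
    obtain ⟨μ, hμ⟩ := exists_norm D hxfix
    have hx0 : x ≠ 0 := div_ne_zero (Units.ne_zero _) (mul_ne_zero ((map_ne_zero ι).2 c.ne_zero) (Units.ne_zero _))
    have hμ0 : μ ≠ 0 := fun h0 => hx0 (by rw [← hμ, h0, zero_mul])
    set μ' := Units.mk0 μ hμ0
    have hμeq : ι c * ((μ' : F) * σ μ') * (R.δ : F) = (R'.δ : F) := by
      show ι c * (μ * σ μ) * (R.δ : F) = _
      rw [hμ, hx]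
      field_simp [(map_ne_zero ι).2 c.ne_zero]
    have hmem : R'.h * (AutPSL.scl μ' * gι X) * R.h⁻¹ ∈ GUn := by
      rw [mem_GU D, rep_form R R', (sim_val D M M' X (Units.map (ι : F₀ →* F) c) c rfl).2 hX, ← mul_assoc (AutPSL.scl _),
        ← AutPSL.scl_mul, show Units.map (θ : F →* F) μ' * μ' * R'.δ⁻¹ * Units.map (ι : F₀ →* F) c = R.δ⁻¹ from
          Units.ext (by
            simp only [Units.val_mul, Units.val_inv_eq_inv_val, Units.coe_map, MonoidHom.coe_coe]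
            show σ μ * μ * (R'.δ : F)⁻¹ * ι c = (R.δ : F)⁻¹
            rw [mul_comm (σ μ), hμ, hx]
            field_simp [(map_ne_zero ι).2 c.ne_zero]), R.hM, ← mul_assoc (AutPSL.scl _), ← AutPSL.scl_mul,
        inv_mul_cancel, AutPSL.scl_one, one_mul]
      group
    exact ⟨_, (inndiag_iff_mem _).2 ⟨⟨_, hmem⟩, rfl⟩,
      ((rep_conj_iff hn hs D R R' ⟨_, hmem⟩).2 ⟨X, μ', c, rfl, hX, hμeq⟩).symm⟩

end CfsgLib.KnownC.GraphForms.Uni
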