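import Cfsg.Agent.Lib.KnownC.GraphForms.UniCentral
import Cfsg.Agent.Lib.KnownC.GraphForms.Counts

/-!
# Splitting of the classes of graph involutions of `PSU_n`
-/

set_option autoImplicit false
set_option linter.unusedSectionVars false

namespace CfsgLib.KnownC.GraphForms.Uni

open Matrix CfsgLib.Classical CfsgLib.KnownC.GUConj CfsgLib.KnownC.AutPSU

variable {F : Type*} [Field F] [Fintype F] {n q : ℕ} [hF : Fact (Fintype.card F = q ^ 2)]
  {F₀ : Type*} [Field F₀] [Fintype F₀] {σ : F ≃+* F} {ι : F₀ →+* F}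
  {γ : MulAut (Cfsg.PSU n F q)} {M : GL (Fin n) F₀}

local notation "M₀" => Matrix (Fin n) (Fin n) F₀

/-- The norm-one element attached to a multiplier. -/
theorem exists_v (D : Data q σ ι) (μ : Fˣ) (c : F₀ˣ) (h : ι c * ((μ : F) * σ μ) = 1) :
    ∃ v : NOne F q, ((v : Fˣ) : F) = (μ : F) ^ 2 * ι c := by
  refine ⟨⟨μ ^ 2 * Units.map (ι : F₀ →* F) c, Units.ext ?_⟩, rfl⟩
  show ((μ : F) ^ 2 * ι c) ^ (q + 1) = 1
  rw [pow_succ, ← D.pow, map_mul, map_pow, sigma_iota D]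
  linear_combination (ι c * ((μ : F) * σ μ) + 1) * h

theorem v_surjective (D : Data q σ ι) (v : NOne F q) :
    ∃ (μ : Fˣ) (c : F₀ˣ), ι c * ((μ : F) * σ μ) = 1 ∧ ((v : Fˣ) : F) = (μ : F) ^ 2 * ι c := by
  have hv := nOne_mul v.2
  rw [← D.pow] at hv
  obtain ⟨μ, hμ0, hμ⟩ := AutPSL.hilbert90 σ (orderOf_sigma D) (by norm_num) ((v : Fˣ) : F) (by
    simpa [AutPSL.nrm] using hv)
  have hfix : σ ((μ * σ μ)⁻¹) = (μ * σ μ)⁻¹ := by rw [map_inv₀, map_mul, sigma_invol D, mul_comm]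
  obtain ⟨c, hc⟩ := (D.fix _).1 hfix
  have hσμ : σ μ ≠ 0 := (map_ne_zero σ).2 hμ0
  have hc0 : c ≠ 0 := fun h => inv_ne_zero (mul_ne_zero hμ0 hσμ) (by rw [← hc, h, map_zero])
  refine ⟨Units.mk0 μ hμ0, Units.mk0 c hc0, ?_, ?_⟩
  · show ι c * (μ * σ μ) = 1
    rw [hc, inv_mul_cancel₀ (mul_ne_zero hμ0 hσμ)]
  · show ((v : Fˣ) : F) = μ ^ 2 * ι c
    rw [hc]
    field_simp
    linear_combination hμ

theorem count_full (hn : 3 ≤ n) (hs : ¬ (n = 3 ∧ q = 2)) (D : Data q σ ι) (R : Rep σ ι γ M)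
    (ho : Odd n ∨ Odd (q + 1)) : (detT γ).index = Nat.gcd n (q + 1) := by
  rw [← card_nOne (F := F) (q := q)] at ho ⊢
  refine index_full (pow_le_detT γ) (fun d hd => ?_) ho
  obtain ⟨X, μ, c, hX, hμ, hd⟩ := mem_detT hn hs D R hd
  obtain ⟨v, hv⟩ := exists_v D μ c hμ
  refine ⟨v, Subtype.ext (Units.ext ?_)⟩
  simp only [SubmonoidClass.coe_pow, Units.val_pow_eq_pow_val, hv, hd, mul_pow, ← map_pow, sim_det_sq M.det_ne_zero hX,
    Fintype.card_fin, ← pow_mul]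
  rw [mul_comm n 2]

theorem count_alt (hn : 3 ≤ n) (hs : ¬ (n = 3 ∧ q = 2)) (D : Data q σ ι) (R : Rep σ ι γ M)
    (hM : ∀ v, v ⬝ᵥ ((M : M₀) *ᵥ v) = 0) {m : ℕ} (hnm : n = 2 * m) :
    (detT γ).index = Nat.gcd m (q + 1) := by
  rw [← card_nOne (F := F) (q := q)]
  obtain ⟨h1, h2⟩ := sim_det_alt hM M.det_ne_zero (m := m) (by rw [Fintype.card_fin, hnm])
  refine index_alt fun d => ⟨fun hd => ?_, ?_⟩
  · obtain ⟨X, μ, c, hX, hμ, hd⟩ := mem_detT hn hs D R hd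
    obtain ⟨v, hv⟩ := exists_v D μ c hμ
    refine ⟨v, Subtype.ext (Units.ext ?_)⟩
    rw [hd, h1 _ _ c.ne_zero hX]
    simp only [SubmonoidClass.coe_pow, Units.val_pow_eq_pow_val, hv, mul_pow, map_pow, ← pow_mul, hnm]
  · rintro ⟨v, rfl⟩
    obtain ⟨μ, c, hμ, hv⟩ := v_surjective D v
    obtain ⟨g, hg, hd⟩ := h2 (c : F₀)
    refine mem_detT_of hn hs D R (Matrix.GeneralLinearGroup.mkOfDetNeZero g (hd ▸ pow_ne_zero _ c.ne_zero)) μ c hg hμ ?_
    show (((v ^ m : NOne F q) : Fˣ) : F) = (μ : F) ^ n * ι g.det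
    simp only [SubmonoidClass.coe_pow, Units.val_pow_eq_pow_val, hv, hd, mul_pow, map_pow, ← pow_mul, hnm]

theorem count_sym (hn : 3 ≤ n) (hs : ¬ (n = 3 ∧ q = 2)) (h2 : (2 : F₀) ≠ 0) (hq : Odd q) (D : Data q σ ι)
    (R : Rep σ ι γ M) (hM : (M : M₀)ᵀ = (M : M₀)) {m : ℕ} (hm : 1 ≤ m) (hnm : n = 2 * m) :
    (detT γ).index = Nat.gcd n (q + 1) / 2 := by
  rw [← card_nOne (F := F) (q := q)]
  refine Eq.trans ?_ (congrArg (fun k => Nat.gcd k _ / 2) hnm.symm)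
  obtain ⟨h1, hex, g₀, hg₀, hd₀⟩ := sim_det_sym h2 hM M.det_ne_zero (m := m) (by rw [Fintype.card_fin, hnm]) hm
  let z : NOne F q := ⟨-1, Units.ext (by
    show (-1 : F) ^ (q + 1) = 1
    exact (Odd.add_one hq).neg_one_pow)⟩
  have hι2 : (2 : F) ≠ 0 := by
    rw [← map_ofNat ι 2]
    exact (map_ne_zero ι).2 h2
  have hz : ((z : Fˣ) : F) = -1 := rfl
  refine index_sym (z := z) (Subtype.ext (Units.ext (by simp [hz]))) (fun h => hι2 ?_) ?_ (fun d hd => ?_)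
    (fun v => ?_)
  · have h' := congrArg (fun u : NOne F q => ((u : Fˣ) : F)) h
    simp only [hz, OneMemClass.coe_one, Units.val_one] at h'
    linear_combination -h'
  · refine mem_detT_of hn hs D R (Matrix.GeneralLinearGroup.mkOfDetNeZero g₀ (by rw [hd₀]; norm_num)) 1 1
      (by show g₀ᵀ * _ * g₀ = _; rw [hg₀, Units.val_one, one_smul]) (by simp) ?_
    show ((z : Fˣ) : F) = _
    rw [hz]
    simp [Matrix.GeneralLinearGroup.mkOfDetNeZero, hd₀]
  · obtain ⟨X, μ, c, hX, hμ, hd⟩ := mem_detT hn hs D R hd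
    obtain ⟨v, hv⟩ := exists_v D μ c hμ
    refine ⟨v, ?_⟩
    rcases h1 _ _ hX with h | h
    · left; refine Subtype.ext (Units.ext ?_)
      rw [hd, h]
      simp only [SubmonoidClass.coe_pow, Units.val_pow_eq_pow_val, hv, mul_pow, map_pow, ← pow_mul, hnm]
    · right; refine Subtype.ext (Units.ext ?_)
      rw [hd, h]
      simp only [Subgroup.coe_mul, Units.val_mul, SubmonoidClass.coe_pow, Units.val_pow_eq_pow_val, hv, hz, mul_pow,
        map_neg, map_pow, ← pow_mul, hnm]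
      ring
  · obtain ⟨μ, c, hμ, hv⟩ := v_surjective D v
    obtain ⟨g, hg⟩ := hex (c : F₀) c.ne_zero
    have hg0 : g.det ≠ 0 := by
      rcases h1 _ _ hg with h | h <;> rw [h] <;> simp
    have key : ∀ d : NOne F q, ((d : Fˣ) : F) = (μ : F) ^ n * ι g.det → d ∈ detT γ := fun d hd =>
      mem_detT_of hn hs D R (Matrix.GeneralLinearGroup.mkOfDetNeZero g hg0) μ c hg hμ hd
    rcases h1 _ _ hg with h | h
    · left; refine key _ ?_
      simp only [SubmonoidClass.coe_pow, Units.val_pow_eq_pow_val, hv, h, mul_pow, map_pow, ← pow_mul, hnm]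
    · right; refine key _ ?_
      simp only [Subgroup.coe_mul, Units.val_mul, SubmonoidClass.coe_pow, Units.val_pow_eq_pow_val, hv, h, hz, mul_pow,
        map_neg, map_pow, ← pow_mul, hnm]
      ring

end CfsgLib.KnownC.GraphForms.Uni
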